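import Groth.Agent.DispLib.Mk
import Mathlib.LinearAlgebra.ExteriorPower.Basis

/-! Exterior powers of 3n-displays with tangent module free of rank one. -/

set_option autoImplicit false

universe u v w

noncomputable section

namespace Groth.Agent.DispLib

open WittVector W4c1extbt610

/-- An abelian group with scalar action twisted by a ring endomorphism. -/
@[nolint unusedArguments]
def Tw {A : Type u} [CommRing A] (_σ : A →+* A) (N : Type v) : Type v := N

section Tw

variable {A : Type u} [CommRing A] (σ : A →+* A) (N : Type v) [AddCommGroup N] [Module A N]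

instance : AddCommGroup (Tw σ N) := inferInstanceAs (AddCommGroup N)

instance : Module A (Tw σ N) := Module.compHom N σ

theorem Tw.smul_def (a : A) (x : N) : (a • (show Tw σ N from x) : Tw σ N) = (σ a • x : N) := rfl

variable {σ N} {P : Type w} [AddCommGroup P] [Module A P] {r : ℕ}

/-- The exterior power of a semilinear map. -/
def extSemi (h : P →ₛₗ[σ] P) : ⋀[A]^r P →ₛₗ[σ] ⋀[A]^r P :=
  let φ : P [⋀^Fin r]→ₗ[A] Tw σ (⋀[A]^r P) :=
    { toFun := fun v => exteriorPower.ιMulti A r (fun i => h (v i))
      map_update_add' := fun v i x y => by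
        show exteriorPower.ιMulti A r (h ∘ Function.update v i (x + y)) =
          ((exteriorPower.ιMulti A r (h ∘ Function.update v i x) +
            exteriorPower.ιMulti A r (h ∘ Function.update v i y) : ⋀[A]^r P) : ⋀[A]^r P)
        simp only [Function.comp_update, map_add, AlternatingMap.map_update_add]
      map_update_smul' := fun v i c x => by
        show exteriorPower.ιMulti A r (h ∘ Function.update v i (c • x)) =
          σ c • exteriorPower.ιMulti A r (h ∘ Function.update v i x)
        simp only [Function.comp_update, LinearMap.map_smulₛₗ, AlternatingMap.map_update_smul]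
      map_eq_zero_of_eq' := fun v i j hij hne =>
        (exteriorPower.ιMulti A r).map_eq_zero_of_eq _ (congrArg h hij) hne }
  let Φ := exteriorPower.alternatingMapLinearEquiv φ
  { toFun := fun z => Φ z
    map_add' := fun a b => map_add Φ a b
    map_smul' := fun c a => map_smul Φ c a }

theorem extSemi_ιMulti (h : P →ₛₗ[σ] P) (v : Fin r → P) :
    extSemi h (exteriorPower.ιMulti A r v) = exteriorPower.ιMulti A r (fun i => h (v i)) := by
  simp only [extSemi]
  rw [LinearMap.coe_mk, AddHom.coe_mk, exteriorPower.alternatingMapLinearEquiv_apply_ιMulti]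
  rfl

/-- A multiple of one vector can be added in at most one slot. -/
theorem alt_add_smul {M : Type w} [AddCommGroup M] [Module A M] {Q : Type v} [AddCommGroup Q]
    [Module A Q] (f : M [⋀^Fin r]→ₗ[A] Q) (l : Fin r → M) (c : Fin r → A) (t : M) :
    f (fun i => l i + c i • t) = f l + ∑ i, c i • f (Function.update l i t) := by
  classical
  suffices H : ∀ s : Finset (Fin r),
      f (fun i => if i ∈ s then l i + c i • t else l i) = f l + ∑ i ∈ s, c i • f (Function.update l i t) by
    have := H Finset.univ
    simpa using this
  intro s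
  induction s using Finset.induction_on with
  | empty => simp
  | @insert a s ha ih =>
    set g : Fin r → M := fun i => if i ∈ s then l i + c i • t else l i with hg
    have e1 : (fun i => if i ∈ insert a s then l i + c i • t else l i) = Function.update g a (l a + c a • t) := by
      funext i
      rcases eq_or_ne i a with rfl | hia
      · simp
      · simp [Function.update_of_ne hia, hg, hia]
    have e2 : Function.update g a (l a) = g := by
      have : g a = l a := by simp [hg, ha]
      rw [← this, Function.update_eq_self]
    have e3 : f (Function.update g a t) = f (Function.update l a t) := by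
      have key : ∀ s' : Finset (Fin r), a ∉ s' →
          f (Function.update (fun i => if i ∈ s' then l i + c i • t else l i) a t) = f (Function.update l a t) := by
        intro s'
        induction s' using Finset.induction_on with
        | empty => intro _; simp
        | @insert b s' hb ih' =>
          intro hab
          rw [Finset.mem_insert, not_or] at hab
          set g' : Fin r → M := fun i => if i ∈ s' then l i + c i • t else l i with hg'
          have e4 : Function.update (fun i => if i ∈ insert b s' then l i + c i • t else l i) a t =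
              Function.update (Function.update g' a t) b (l b + c b • t) := by
            funext i
            rcases eq_or_ne i a with rfl | hia
            · simp [Function.update_of_ne hab.1]
            · rcases eq_or_ne i b with rfl | hib
              · simp [Function.update_of_ne hia]
              · simp [Function.update_of_ne hia, Function.update_of_ne hib, hg', hib]
          have e5 : Function.update (Function.update g' a t) b (l b) = Function.update g' a t := by
            have : Function.update g' a t b = l b := by
              simp [Function.update_of_ne (Ne.symm hab.1), hg', hb]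
            rw [← this, Function.update_eq_self]
          have e6 : f (Function.update (Function.update g' a t) b t) = 0 :=
            f.map_eq_zero_of_eq _ (by simp [Function.update_of_ne hab.1]) hab.1
          rw [e4, f.map_update_add, f.map_update_smul, e5, e6, smul_zero, add_zero, ih' hab.2]
      exact key s ha
    rw [e1, f.map_update_add, f.map_update_smul, e2, e3, ih, Finset.sum_insert ha]
    abel

end Tw

variable {p : ℕ} [Fact p.Prime] {R : Type u} [CommRing R]
  {P : Type v} [AddCommGroup P] [Module (WittVector p R) P] (D : Display3n p R P)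
  {L T : Submodule (WittVector p R) P} (hLT : IsCompl L T) (hQ : D.Q = L ⊔ IV p R • T)
  (hLQ : L ≤ D.Q) (r : ℕ)

theorem projective_extPow [Module.Finite (WittVector p R) P] [Module.Projective (WittVector p R) P] :
    Module.Projective (WittVector p R) (⋀[WittVector p R]^r P) := by
  obtain ⟨n, f, i, -, -, hfi⟩ := Module.Finite.exists_comp_eq_id_of_projective (WittVector p R) P
  refine Module.Projective.of_split (exteriorPower.map r i) (exteriorPower.map r f) ?_
  rw [← exteriorPower.map_comp, hfi, exteriorPower.map_id]

/-- The projection to `⋀^r L`. -/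
def πE : ⋀[WittVector p R]^r P →ₗ[WittVector p R] ⋀[WittVector p R]^r P := exteriorPower.map r (πL hLT)

theorem πE_idem (z : ⋀[WittVector p R]^r P) : πE hLT r (πE hLT r z) = πE hLT r z := by
  show (exteriorPower.map r (πL hLT) ∘ₗ exteriorPower.map r (πL hLT)) z = _
  rw [← exteriorPower.map_comp,
    show πL hLT ∘ₗ πL hLT = πL hLT from LinearMap.ext fun x => πL_of_mem hLT (πL_mem hLT x)]
  rfl

variable {t : P} (ht : t ∈ T) (hTt : ∀ x ∈ T, ∃ a : WittVector p R, a • t = x)

include ht hTt hQ in
theorem exists_decomp (y : D.Q) :
    ∃ (l : P) (w : WittVector p R), l ∈ L ∧ (y : P) = l + verschiebung w • t := by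
  refine Q_induction D hQ (motive := fun z => ∃ (l : P) (w : WittVector p R), l ∈ L ∧ z = l + verschiebung w • t)
    (fun l hl => ⟨l, 0, hl, by rw [map_zero, zero_smul, add_zero]⟩) (fun w s hs => ?_)
    (fun a b _ _ => ?_) y
  · obtain ⟨a, rfl⟩ := hTt s hs
    exact ⟨0, w * frobenius a, L.zero_mem, by rw [zero_add, smul_smul, verschiebung_mul]⟩
  · rintro ⟨l, w, hl, rfl⟩ ⟨l', w', hl', rfl⟩
    exact ⟨l + l', w + w', L.add_mem hl hl', by rw [map_add, add_smul, add_add_add_comm]⟩

/-- `F` on the exterior power. -/
def FE : ⋀[WittVector p R]^r P →ₛₗ[(WittVector.frobenius : WittVector p R →+* WittVector p R)]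
    ⋀[WittVector p R]^r P :=
  (extSemi (psi D hLT hLQ)).comp (LinearMap.id - πE hLT r + (p : WittVector p R) • πE hLT r)

theorem FE_π (z : ⋀[WittVector p R]^r P) :
    FE D hLT hLQ r (πE hLT r z) = (p : WittVector p R) • extSemi (psi D hLT hLQ) (πE hLT r z) := by
  show extSemi _ (πE hLT r z - πE hLT r (πE hLT r z) + (p : WittVector p R) • πE hLT r (πE hLT r z)) = _
  rw [πE_idem, sub_self, zero_add, LinearMap.map_smulₛₗ, map_natCast]

include hQ hLQ in
theorem exists_isExtPow (ht : t ∈ T) (hTt : ∀ x ∈ T, ∃ a : WittVector p R, a • t = x) :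
    ∃ E : Display3n p R (⋀[WittVector p R]^r P), IsExtPow D r E ∧ E.Q = mkQ' (πE hLT r) ∧
      ∀ E' : Display3n p R (⋀[WittVector p R]^r P), IsExtPow D r E' → E' = E := by
  haveI := D.finite
  haveI := D.projective
  haveI hproj := projective_extPow (p := p) (R := R) (P := P) r
  obtain ⟨n, eb, φ, hφ⟩ := exists_coord (A := WittVector p R) (M := ⋀[WittVector p R]^r P)
  have hspan : Submodule.span (WittVector p R) (Set.range (fun x => extSemi (psi D hLT hLQ) (πE hLT r x)) ∪
      Set.range (FE D hLT hLQ r)) = ⊤ := by
    rw [eq_top_iff, ← exteriorPower.ιMulti_span_of_span (WittVector p R) r P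
      (span_range_psi D hLT hQ hLQ), Submodule.span_le]
    rintro _ ⟨v, hv, rfl⟩
    choose x hx using fun i => hv (Set.mem_range_self i)
    have : exteriorPower.ιMulti (WittVector p R) r v =
        extSemi (psi D hLT hLQ) (exteriorPower.ιMulti (WittVector p R) r x) := by
      rw [extSemi_ιMulti]; congr 1; funext i; exact (hx i).symm
    rw [SetLike.mem_coe, this]
    set z := exteriorPower.ιMulti (WittVector p R) r x
    have hz : extSemi (psi D hLT hLQ) z =
        extSemi (psi D hLT hLQ) (πE hLT r z) + FE D hLT hLQ r (z - πE hLT r z) := by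
      show _ = _ + extSemi _ (z - πE hLT r z - πE hLT r (z - πE hLT r z) +
        (p : WittVector p R) • πE hLT r (z - πE hLT r z))
      rw [map_sub (πE hLT r), πE_idem, sub_self, smul_zero, add_zero, sub_zero, ← map_add, add_sub_cancel]
    rw [hz]
    exact add_mem (Submodule.subset_span (Or.inl ⟨_, rfl⟩)) (Submodule.subset_span (Or.inr ⟨_, rfl⟩))
  let E := mkDisplay inferInstance hproj (πE hLT r) (πE_idem hLT r) (FE D hLT hLQ r) (extSemi (psi D hLT hLQ))
    (FE_π D hLT hLQ r) hspan eb φ hφ
  have hEQ : E.Q = mkQ' (πE hLT r) := rfl
  -- wedges of elements of `Q`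
  have hw : ∀ q : Fin r → D.Q, ∃ h : exteriorPower.ιMulti (WittVector p R) r (fun i => (q i : P)) ∈ E.Q,
      E.Vinv ⟨_, h⟩ = exteriorPower.ιMulti (WittVector p R) r (fun i => D.Vinv (q i)) := by
    intro q
    choose l w hl hlw using fun i => exists_decomp D hQ ht hTt (q i)
    have hVi : ∀ i, D.Vinv (q i) = psi D hLT hLQ (l i) + w i • D.F t := fun i => by
      rw [Vinv_congr D (y' := ⟨l i, hLQ (hl i)⟩ + ⟨_, verschiebung_smul_mem D (w i) t⟩) (hlw i), map_add,
        D.Vinv_verschiebung_smul, psi_L D hLT hLQ (hl i)]
    have h1 : exteriorPower.ιMulti (WittVector p R) r (fun i => (q i : P)) =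
        exteriorPower.ιMulti (WittVector p R) r l +
          ∑ i, verschiebung (w i) • exteriorPower.ιMulti (WittVector p R) r (Function.update l i t) := by
      rw [← alt_add_smul, show (fun i => (q i : P)) = fun i => l i + verschiebung (w i) • t from funext hlw]
    have h2 : exteriorPower.ιMulti (WittVector p R) r (fun i => D.Vinv (q i)) =
        exteriorPower.ιMulti (WittVector p R) r (fun i => psi D hLT hLQ (l i)) +
          ∑ i, w i • exteriorPower.ιMulti (WittVector p R) r
            (Function.update (fun i => psi D hLT hLQ (l i)) i (D.F t)) := by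
      rw [← alt_add_smul, funext hVi]
    have hπl : πE hLT r (exteriorPower.ιMulti (WittVector p R) r l) =
        exteriorPower.ιMulti (WittVector p R) r l := by
      rw [πE, exteriorPower.map_apply_ιMulti]
      congr 1; funext i; exact πL_of_mem hLT (hl i)
    have hπu : ∀ i, πE hLT r (exteriorPower.ιMulti (WittVector p R) r (Function.update l i t)) = 0 := by
      intro i
      rw [πE, exteriorPower.map_apply_ιMulti]
      exact (exteriorPower.ιMulti (WittVector p R) r).map_coord_zero i (by
        simp [πL_of_mem' hLT ht])
    have hlE : exteriorPower.ιMulti (WittVector p R) r l ∈ E.Q := by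
      rw [hEQ, mem_mkQ', hπl, sub_self]; exact zero_mem _
    have hmem : exteriorPower.ιMulti (WittVector p R) r (fun i => (q i : P)) ∈ E.Q := by
      rw [h1]
      exact add_mem hlE (Submodule.sum_mem _ fun i _ => verschiebung_smul_mem E _ _)
    refine ⟨hmem, ?_⟩
    rw [Vinv_congr E (y := ⟨_, hmem⟩)
        (y' := ⟨_, hlE⟩ + ∑ i, ⟨_, verschiebung_smul_mem E (w i)
          (exteriorPower.ιMulti (WittVector p R) r (Function.update l i t))⟩)
        (by simp only [Submodule.coe_add, Submodule.coe_sum]; exact h1),
      map_add, map_sum, h2]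
    congr 1
    · refine (Vinv_congr E (y' := ⟨πE hLT r (exteriorPower.ιMulti (WittVector p R) r l), by
        rw [hπl]; exact hlE⟩) hπl.symm).trans ((mkVinv_π _ (πE_idem hLT r) _ _ eb φ _ _).trans ?_)
      rw [hπl, extSemi_ιMulti]
    · refine Finset.sum_congr rfl fun i _ => ?_
      rw [E.Vinv_verschiebung_smul]
      congr 1
      show extSemi _ (_ - πE hLT r _ + (p : WittVector p R) • πE hLT r _) = _
      rw [hπu, smul_zero, add_zero, sub_zero, LinearMap.id_apply, extSemi_ιMulti]
      congr 1
      funext j
      rcases eq_or_ne j i with rfl | hji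
      · simp [psi_T D hLT hLQ ht]
      · simp [Function.update_of_ne hji]
  have hQE : E.Q = Submodule.span (WittVector p R)
      (Set.range fun q : Fin r → D.Q => exteriorPower.ιMulti (WittVector p R) r (fun i => (q i : P))) := by
    refine le_antisymm (fun z hz => ?_) (Submodule.span_le.2 (by rintro _ ⟨q, rfl⟩; exact (hw q).1))
    set S := Submodule.span (WittVector p R)
      (Set.range fun q : Fin r → D.Q => exteriorPower.ιMulti (WittVector p R) r (fun i => (q i : P)))
    have hπS : ∀ z, πE hLT r z ∈ S := by
      intro z
      have : z ∈ (⊤ : Submodule (WittVector p R) _) := trivial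
      rw [← exteriorPower.ιMulti_span (R := WittVector p R) (n := r) (M := P)] at this
      induction this using Submodule.span_induction with
      | mem z hz =>
        obtain ⟨v, rfl⟩ := hz
        rw [πE, exteriorPower.map_apply_ιMulti]
        exact Submodule.subset_span ⟨fun i => ⟨πL hLT (v i), hLQ (πL_mem hLT _)⟩, rfl⟩
      | zero => rw [map_zero]; exact zero_mem _
      | add a b _ _ ha hb => rw [map_add]; exact add_mem ha hb
      | smul c a _ ha => rw [map_smul]; exact S.smul_mem c ha
    rw [← sub_add_cancel z (πE hLT r z)]
    refine add_mem ?_ (hπS z)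
    rcases Nat.eq_zero_or_pos r with rfl | hr
    · have : πE hLT 0 z = z := by
        have h0 : πE hLT 0 = LinearMap.id := exteriorPower.linearMap_ext (AlternatingMap.ext fun v => by
          show πE hLT 0 (exteriorPower.ιMulti (WittVector p R) 0 v) = exteriorPower.ιMulti (WittVector p R) 0 v
          rw [πE, exteriorPower.map_apply_ιMulti]
          exact congrArg _ (funext fun i => i.elim0))
        rw [h0]; rfl
      rw [this, sub_self]; exact zero_mem _
    refine Submodule.smul_induction_on (mem_mkQ' _ |>.1 hz) (fun a ha y hy0 => ?_) (fun a b ha hb => add_mem ha hb)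
    clear hy0
    obtain ⟨u, rfl⟩ := mem_IV_iff.1 ha
    have : y ∈ (⊤ : Submodule (WittVector p R) _) := trivial
    rw [← exteriorPower.ιMulti_span (R := WittVector p R) (n := r) (M := P)] at this
    induction this using Submodule.span_induction with
    | mem y hy =>
      obtain ⟨v, rfl⟩ := hy
      -- split each slot
      let N : Submodule (WittVector p R) P := L ⊔ T
      have hsp : ∀ i : Fin r, ∃ a : WittVector p R, v i = πL hLT (v i) + a • t := fun i => by
        obtain ⟨a, ha⟩ := hTt _ (sub_πL_mem hLT (v i))
        exact ⟨a, by rw [ha, add_sub_cancel]⟩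
      choose a ha using hsp
      rw [show v = fun i => πL hLT (v i) + a i • t from funext ha, alt_add_smul, smul_add, Finset.smul_sum]
      refine add_mem (S.smul_mem _ ?_) (Submodule.sum_mem _ fun i _ => ?_)
      · have := hπS (exteriorPower.ιMulti (WittVector p R) r v)
        rwa [πE, exteriorPower.map_apply_ιMulti] at this
      · rw [smul_comm]
        refine S.smul_mem _ ?_
        rw [← AlternatingMap.map_update_smul]
        refine Submodule.subset_span ⟨fun j => if h : j = i then ⟨verschiebung u • t, verschiebung_smul_mem D u t⟩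
          else ⟨πL hLT (v j), hLQ (πL_mem hLT _)⟩, congrArg _ (funext fun j => ?_)⟩
        rcases eq_or_ne j i with rfl | hji
        · simp
        · simp [hji, Function.update_of_ne hji]
    | zero => rw [smul_zero]; exact zero_mem _
    | add a b _ _ ha' hb' => rw [smul_add]; exact add_mem ha' hb'
    | smul c a _ ha' => rw [smul_comm]; exact S.smul_mem c ha'
  refine ⟨E, ⟨hQE, fun q hq => (hw q).2⟩, hEQ, fun E' hE' => ?_⟩
  have hQe : E'.Q = E.Q := hE'.1.trans hQE.symm
  have hV : ∀ z, ∀ (h1 : z ∈ E'.Q) (h2 : z ∈ E.Q), E'.Vinv ⟨z, h1⟩ = E.Vinv ⟨z, h2⟩ := by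
    intro z h1
    have h1' := h1
    rw [hE'.1] at h1'
    induction h1' using Submodule.span_induction with
    | mem z hz =>
      obtain ⟨q, rfl⟩ := hz
      intro h2
      exact (hE'.2 q h1).trans (hw q).2.symm
    | zero =>
      intro h2
      rw [show (⟨0, h1⟩ : E'.Q) = 0 from rfl, show (⟨0, h2⟩ : E.Q) = 0 from rfl, map_zero, map_zero]
    | add a b ha hb iha ihb =>
      intro h2
      rw [← hE'.1] at ha hb
      rw [show (⟨a + b, h1⟩ : E'.Q) = ⟨a, ha⟩ + ⟨b, hb⟩ from rfl,
        show (⟨a + b, h2⟩ : E.Q) = ⟨a, hQe ▸ ha⟩ + ⟨b, hQe ▸ hb⟩ from rfl, map_add, map_add,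
        iha ha, ihb hb]
    | smul c a ha iha =>
      intro h2
      rw [← hE'.1] at ha
      rw [show (⟨c • a, h1⟩ : E'.Q) = c • ⟨a, ha⟩ from rfl,
        show (⟨c • a, h2⟩ : E.Q) = c • ⟨a, hQe ▸ ha⟩ from rfl, Vinv_smul, Vinv_smul, iha ha]
  refine display_ext hQe (fun x => ?_) hV
  rw [F_eq_Vinv E', F_eq_Vinv E]
  exact hV _ _ _

end Groth.Agent.DispLib
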