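import Groth.Agent.DispLib.Basic
import Mathlib.LinearAlgebra.FreeModule.Finite.Basic
import Mathlib.LinearAlgebra.StdBasis
import Mathlib.LinearAlgebra.Quotient.Pi

/-! The linearised structure map of a 3n-display is bijective. -/

set_option autoImplicit false

universe u v w

noncomputable section

namespace Groth.Agent.DispLib

open WittVector W4c1extbt610

section BC

variable {A : Type u} {B : Type v} [CommRing A] [CommRing B] (g : A →+* B)
  (P : Type w) [AddCommGroup P] [Module A P]

theorem span_ι {ι' : Type*} {v : ι' → P} (hv : Submodule.span A (Set.range v) = ⊤) :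
    Submodule.span B (Set.range fun i => Dieu.BC.tmul g 1 (v i)) = ⊤ := by
  rw [eq_top_iff]
  rintro z -
  induction z using Dieu.BC.induction_on g with
  | zero => exact zero_mem _
  | tmul b x =>
    rw [Dieu.BC.tmul_eq_smul_tmul_one]
    refine Submodule.smul_mem _ b ?_
    have hx : x ∈ Submodule.span A (Set.range v) := hv ▸ trivial
    induction hx using Submodule.span_induction with
    | mem x hx => obtain ⟨i, rfl⟩ := hx; exact Submodule.subset_span ⟨i, rfl⟩
    | zero => rw [Dieu.BC.tmul_zero]; exact zero_mem _
    | add x y _ _ hx hy => rw [Dieu.BC.tmul_add]; exact add_mem hx hy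
    | smul a x _ hx =>
      rw [← Dieu.BC.tmul_apply_eq, Dieu.BC.tmul_eq_smul_tmul_one]
      exact Submodule.smul_mem _ _ hx
  | add z₁ z₂ h₁ h₂ => exact add_mem h₁ h₂

theorem finite_BC [Module.Finite A P] : Module.Finite B (Dieu.BC g P) := by
  obtain ⟨n, v, hv⟩ := Module.Finite.exists_fin (R := A) (M := P)
  exact Module.Finite.of_fg_top (span_ι g P hv ▸ Submodule.fg_span (Set.finite_range _))

theorem projective_BC [Module.Finite A P] [Module.Projective A P] :
    Module.Projective B (Dieu.BC g P) := by
  obtain ⟨n, f, i, -, -, hfi⟩ := Module.Finite.exists_comp_eq_id_of_projective A P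
  let e : Dieu.BC g (Fin n → A) →ₗ[B] (Fin n → B) := Dieu.BC.lift g
    { toFun := fun x j => g (x j)
      map_add' := fun x y => by funext j; exact map_add g _ _
      map_smul' := fun a x => by funext j; exact map_mul g _ _ }
  let e' : (Fin n → B) →ₗ[B] Dieu.BC g (Fin n → A) :=
    Fintype.linearCombination B (fun j => Dieu.BC.tmul g 1 (Pi.single j (1 : A)))
  have hee : e'.comp e = LinearMap.id := by
    refine Dieu.BC.ext g fun x => ?_
    show e' (e (Dieu.BC.tmul g 1 x)) = Dieu.BC.tmul g 1 x
    rw [Dieu.BC.lift_tmul, one_smul]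
    show Fintype.linearCombination B _ (fun j => g (x j)) = _
    rw [Fintype.linearCombination_apply]
    conv_rhs => rw [pi_eq_sum_univ' x]
    simp only [Dieu.BC.smul_tmul, mul_one, Dieu.BC.tmul_apply_eq]
    exact (map_sum (Dieu.BC.ι g (Fin n → A)) _ _).symm
  refine Module.Projective.of_split (e.comp (Dieu.BC.map g i)) ((Dieu.BC.map g f).comp e') ?_
  rw [LinearMap.comp_assoc, ← LinearMap.comp_assoc _ e e', hee, LinearMap.id_comp]
  refine Dieu.BC.ext g fun x => ?_
  rw [LinearMap.comp_apply, Dieu.BC.map_tmul, Dieu.BC.map_tmul,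
    show f (i x) = x from LinearMap.congr_fun hfi x]
  rfl

end BC

variable {p : ℕ} [Fact p.Prime] {R : Type u} [CommRing R]
  {P : Type v} [AddCommGroup P] [Module (WittVector p R) P] [Module.Finite (WittVector p R) P]
  [Module.Projective (WittVector p R) P]

/-- A semilinear epimorphism along the Frobenius between finite projective modules is an isomorphism. -/
theorem lift_bijective_of_surjective (hp : IsNilpotent (p : R)) :
    ∀ (φ : P →ₛₗ[(WittVector.frobenius : WittVector p R →+* WittVector p R)] P),
    Function.Surjective (Dieu.BC.lift (WittVector.frobenius : WittVector p R →+* WittVector p R) φ) →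
    Function.Bijective (Dieu.BC.lift (WittVector.frobenius : WittVector p R →+* WittVector p R) φ) := by
  set g := (WittVector.frobenius : WittVector p R →+* WittVector p R)
  intro φ h
  haveI := finite_BC g P
  set Φ := Dieu.BC.lift g φ with hΦdef
  obtain ⟨s, hs⟩ := Module.projective_lifting_property Φ LinearMap.id h
  set q : Dieu.BC g P →ₗ[WittVector p R] Dieu.BC g P := LinearMap.id - s.comp Φ with hqdef
  have hqK : ∀ z, Φ z = 0 → q z = z := fun z hz => by simp [hqdef, hz]
  have hKq : ∀ z, Φ (q z) = 0 := fun z => by
    have : Φ (s (Φ z)) = Φ z := LinearMap.congr_fun hs (Φ z)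
    simp [hqdef, this]
  have key : ∀ (m : Ideal (WittVector p R)), m.IsMaximal →
      ∀ z, Φ z = 0 → z ∈ m • (⊤ : Submodule (WittVector p R) (Dieu.BC g P)) := by
    intro m hm z hz
    letI := Ideal.Quotient.field m
    set M₁ := Dieu.BC g P ⧸ (m • ⊤ : Submodule (WittVector p R) (Dieu.BC g P))
    set M₂ := P ⧸ (m • ⊤ : Submodule (WittVector p R) P)
    haveI : Module.Finite (WittVector p R ⧸ m) M₁ :=
      Module.Finite.of_restrictScalars_finite (WittVector p R) _ _
    haveI : Module.Finite (WittVector p R ⧸ m) M₂ :=
      Module.Finite.of_restrictScalars_finite (WittVector p R) _ _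
    have hmap : ∀ y ∈ (m • ⊤ : Submodule (WittVector p R) P),
        Dieu.BC.tmul g 1 y ∈ m • (⊤ : Submodule (WittVector p R) (Dieu.BC g P)) := by
      intro y hy
      refine Submodule.smul_induction_on hy (fun a ha x _ => ?_) (fun a b ha hb => ?_)
      · rw [← Dieu.BC.tmul_apply_eq, Dieu.BC.tmul_eq_smul_tmul_one]
        exact Submodule.smul_mem_smul ((frobenius_mem_iff hp m a).2 ha) Submodule.mem_top
      · rw [Dieu.BC.tmul_add]; exact add_mem ha hb
    let bb := Module.finBasis (WittVector p R ⧸ m) M₂
    choose v hv using fun i => Submodule.Quotient.mk_surjective _ (bb i)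
    have hspan : Submodule.span (WittVector p R)
        (Set.range fun i => (Submodule.Quotient.mk (Dieu.BC.tmul g 1 (v i)) : M₁)) = ⊤ := by
      rw [eq_top_iff]
      rintro y -
      obtain ⟨y, rfl⟩ := Submodule.Quotient.mk_surjective _ y
      induction y using Dieu.BC.induction_on g with
      | zero => exact zero_mem _
      | add a b ha hb => rw [Submodule.Quotient.mk_add]; exact add_mem ha hb
      | tmul b x =>
        rw [Dieu.BC.tmul_eq_smul_tmul_one, Submodule.Quotient.mk_smul]
        refine Submodule.smul_mem _ b ?_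
        choose c hc using fun i => Ideal.Quotient.mk_surjective (I := m)
          (bb.repr (Submodule.Quotient.mk x) i)
        have hx : x - ∑ i, c i • v i ∈ (m • ⊤ : Submodule (WittVector p R) P) := by
          rw [← Submodule.Quotient.mk_eq_zero, Submodule.Quotient.mk_sub, sub_eq_zero,
            ← Submodule.mkQ_apply (p := (m • ⊤ : Submodule (WittVector p R) P))
              (∑ i, c i • v i), map_sum]
          conv_lhs => rw [← bb.sum_repr (Submodule.Quotient.mk x)]
          refine Finset.sum_congr rfl fun i _ => ?_
          rw [map_smul, Submodule.mkQ_apply, hv i, ← hc i]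
          rfl
        have h1 := hmap _ hx
        rw [← Submodule.Quotient.mk_eq_zero] at h1
        have h2 : (Dieu.BC.ι g P) (x - ∑ i, c i • v i) =
            Dieu.BC.tmul g 1 x - ∑ i, g (c i) • Dieu.BC.tmul g 1 (v i) := by
          rw [map_sub, map_sum]
          simp only [LinearMap.map_smulₛₗ, Dieu.BC.ι_apply]
        rw [← Dieu.BC.ι_apply, h2, Submodule.Quotient.mk_sub, sub_eq_zero] at h1
        rw [h1, ← Submodule.mkQ_apply, map_sum]
        refine Submodule.sum_mem _ fun i _ => ?_
        rw [map_smul]
        exact Submodule.smul_mem _ _ (Submodule.subset_span ⟨i, rfl⟩)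
    have hle : Module.finrank (WittVector p R ⧸ m) M₁ ≤ Module.finrank (WittVector p R ⧸ m) M₂ := by
      have htop : Submodule.span (WittVector p R ⧸ m)
          (Set.range fun i => (Submodule.Quotient.mk (Dieu.BC.tmul g 1 (v i)) : M₁)) = ⊤ := by
        rw [← Submodule.restrictScalars_eq_top_iff (WittVector p R), eq_top_iff, ← hspan,
          Submodule.span_le]
        exact Submodule.subset_span
      have := (finrank_range_le_card (R := WittVector p R ⧸ m)
        (fun i => (Submodule.Quotient.mk (Dieu.BC.tmul g 1 (v i)) : M₁)))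
      rw [Set.finrank, htop, finrank_top] at this
      simpa using this
    have hmapQ : (m • ⊤ : Submodule (WittVector p R) (Dieu.BC g P)) ≤
        Submodule.comap Φ (m • ⊤ : Submodule (WittVector p R) P) := by
      rw [← Submodule.map_le_iff_le_comap, Submodule.map_smul'']
      exact Submodule.smul_mono le_rfl le_top
    let Φ' : M₁ →ₗ[WittVector p R] M₂ := Submodule.mapQ _ _ Φ hmapQ
    let Φ'' : M₁ →ₗ[WittVector p R ⧸ m] M₂ :=
      { toFun := Φ'
        map_add' := map_add Φ'
        map_smul' := fun c y => by
          obtain ⟨c, rfl⟩ := Ideal.Quotient.mk_surjective c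
          exact map_smul Φ' c y }
    have hsurj : Function.Surjective Φ'' := by
      intro y
      obtain ⟨y, rfl⟩ := Submodule.Quotient.mk_surjective _ y
      obtain ⟨z, rfl⟩ := h y
      exact ⟨Submodule.Quotient.mk z, rfl⟩
    have hge := LinearMap.finrank_le_finrank_of_surjective hsurj
    have hinj : Function.Injective Φ'' :=
      (LinearMap.injective_iff_surjective_of_finrank_eq_finrank (le_antisymm hle hge)).2 hsurj
    rw [← Submodule.Quotient.mk_eq_zero]
    refine hinj ?_
    rw [map_zero]
    show Submodule.Quotient.mk (Φ z) = 0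
    rw [hz, Submodule.Quotient.mk_zero]
  refine ⟨?_, h⟩
  rw [← LinearMap.ker_eq_bot]
  have hKr : LinearMap.ker Φ = LinearMap.range q := le_antisymm
    (fun z hz => ⟨z, hqK z hz⟩) (by rintro _ ⟨z, rfl⟩; exact hKq z)
  have hfg : (LinearMap.ker Φ).FG := by
    rw [hKr, LinearMap.range_eq_map]
    exact Module.Finite.fg_top.map q
  set Ann := (LinearMap.ker Φ).annihilator with hAnn
  have htop : Ann = ⊤ := by
    by_contra hne
    obtain ⟨m, hm, hle⟩ := Ideal.exists_le_maximal _ hne
    have hK : LinearMap.ker Φ ≤ m • LinearMap.ker Φ := by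
      intro z hz
      have h1 : q z ∈ Submodule.map q (m • (⊤ : Submodule (WittVector p R) (Dieu.BC g P))) :=
        Submodule.mem_map_of_mem (key m hm z hz)
      rw [Submodule.map_smul'', Submodule.map_top, ← hKr, hqK z hz] at h1
      exact h1
    obtain ⟨r, hr1, hr⟩ := Submodule.exists_sub_one_mem_and_smul_eq_zero_of_fg_of_le_smul m _ hfg hK
    have hrm : r ∈ m := hle (Submodule.mem_annihilator.2 fun z hz => hr z hz)
    exact hm.ne_top ((Ideal.eq_top_iff_one m).2 (by simpa using sub_mem hrm hr1))
  rwa [hAnn, Submodule.annihilator_eq_top_iff] at htop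

end Groth.Agent.DispLib
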