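import Groth.Agent.DispLib.Mk
import Groth.Agent.DispLib.Psi

/-! Base change of 3n-displays. -/

set_option autoImplicit false

universe u v

noncomputable section

namespace Groth.Agent.DispLib

open WittVector W4c1extbt610

variable {p : ℕ} [Fact p.Prime] {S R : Type u} [CommRing S] [CommRing R] (f : S →+* R)
  {P : Type v} [AddCommGroup P] [Module (WittVector p S) P]

theorem frobenius_comp_map :
    (WittVector.frobenius : WittVector p R →+* WittVector p R).comp
        (WittVector.map f : WittVector p S →+* WittVector p R) =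
      (WittVector.map f : WittVector p S →+* WittVector p R).comp
        (WittVector.frobenius : WittVector p S →+* WittVector p S) :=
  RingHom.ext fun x => (map_frobenius' f x).symm

/-- `σ(w) ⊗ h x`. -/
def bcSemi (h : P →ₛₗ[(WittVector.frobenius : WittVector p S →+* WittVector p S)] P) :
    Dieu.BC (WittVector.map f : WittVector p S →+* WittVector p R) P
      →ₛₗ[(WittVector.frobenius : WittVector p R →+* WittVector p R)]
      Dieu.BC (WittVector.map f : WittVector p S →+* WittVector p R) P :=
  let g := (WittVector.map f : WittVector p S →+* WittVector p R)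
  let σ := (WittVector.frobenius : WittVector p S →+* WittVector p S)
  let ι' : P →ₛₗ[g.comp σ] Dieu.BC g P :=
    { toFun := fun x => Dieu.BC.ι g P (h x)
      map_add' := fun a b => by rw [map_add, map_add]
      map_smul' := fun a x => by rw [LinearMap.map_smulₛₗ, LinearMap.map_smulₛₗ]; rfl }
  { toFun := fun z => Dieu.BC.lift (g.comp σ) ι' (Dieu.BC.castHom (frobenius_comp_map f)
      (Dieu.BC.push g (WittVector.frobenius : WittVector p R →+* WittVector p R) z))
    map_add' := fun a b => by rw [map_add, map_add, map_add]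
    map_smul' := fun a z => by rw [LinearMap.map_smulₛₗ, map_smul, map_smul] }

theorem bcSemi_tmul (h : P →ₛₗ[(WittVector.frobenius : WittVector p S →+* WittVector p S)] P)
    (w : WittVector p R) (x : P) :
    bcSemi f h (Dieu.BC.tmul (WittVector.map f : WittVector p S →+* WittVector p R) w x) =
      Dieu.BC.tmul (WittVector.map f : WittVector p S →+* WittVector p R) (frobenius w) (h x) := by
  simp only [bcSemi, LinearMap.coe_mk, AddHom.coe_mk]
  rw [Dieu.BC.push_tmul, Dieu.BC.castHom_tmul, Dieu.BC.lift_tmul]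
  show frobenius w • Dieu.BC.tmul _ 1 (h x) = _
  rw [Dieu.BC.smul_tmul, mul_one]

theorem bcSemi_ext {M : Type*} [AddCommGroup M] [Module (WittVector p R) M]
    {a b : Dieu.BC (WittVector.map f : WittVector p S →+* WittVector p R) P
      →ₛₗ[(WittVector.frobenius : WittVector p R →+* WittVector p R)] M}
    (h : ∀ x, a (Dieu.BC.tmul _ 1 x) = b (Dieu.BC.tmul _ 1 x)) : a = b := by
  refine LinearMap.ext fun z => ?_
  induction z using Dieu.BC.induction_on with
  | zero => rw [map_zero, map_zero]
  | tmul w x => rw [Dieu.BC.tmul_eq_smul_tmul_one, LinearMap.map_smulₛₗ, LinearMap.map_smulₛₗ, h]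
  | add z z' e e' => rw [map_add, map_add, e, e']

variable (D : Display3n p S P) {L T : Submodule (WittVector p S) P} (hLT : IsCompl L T)
  (hQ : D.Q = L ⊔ IV p S • T)

/-- The projection to `L_R`. -/
def πR : Dieu.BC (WittVector.map f : WittVector p S →+* WittVector p R) P →ₗ[WittVector p R]
    Dieu.BC (WittVector.map f : WittVector p S →+* WittVector p R) P :=
  Dieu.BC.map _ (πL hLT)

theorem πR_idem (z : Dieu.BC (WittVector.map f : WittVector p S →+* WittVector p R) P) :
    πR f hLT (πR f hLT z) = πR f hLT z := by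
  induction z using Dieu.BC.induction_on with
  | zero => simp only [map_zero]
  | tmul w x =>
    simp only [πR, Dieu.BC.map_tmul]
    rw [πL_of_mem hLT (πL_mem hLT x)]
  | add z z' e e' => rw [map_add, map_add, e, e']

include hQ in
theorem ker_bcQuotMap :
    LinearMap.ker (Dieu.bcQuotMap f D.Q) = mkQ' (πR f hLT) := by
  have hπ0 : ∀ z, Dieu.bcQuotMap f D.Q (πR f hLT z) = 0 := by
    intro z
    induction z using Dieu.BC.induction_on with
    | zero => simp only [map_zero]
    | tmul w x =>
      rw [πR, Dieu.BC.map_tmul, Dieu.bcQuotMap_tmul, Submodule.mkQ_apply,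
        (Submodule.Quotient.mk_eq_zero _).2 (hQ ▸ Submodule.mem_sup_left (πL_mem hLT x)),
        Dieu.BC.tmul_zero]
    | add z z' e e' => rw [map_add, map_add, e, e', add_zero]
  refine le_antisymm (fun z hz => ?_) (fun z hz => ?_)
  · let M := Dieu.BC (WittVector.map f : WittVector p S →+* WittVector p R) P
    let N := M ⧸ (IV p R • (⊤ : Submodule (WittVector p R) M))
    have hker : RingHom.ker (WittVector.constantCoeff : WittVector p R →+* R) ≤
        RingHom.ker (Module.toAddMonoidEnd (WittVector p R) N) := by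
      intro w hw
      rw [← IV_eq_ker] at hw
      refine AddMonoidHom.ext fun m => ?_
      obtain ⟨x, rfl⟩ := Submodule.Quotient.mk_surjective _ m
      show w • (Submodule.Quotient.mk x : N) = 0
      rw [← Submodule.Quotient.mk_smul, Submodule.Quotient.mk_eq_zero]
      exact Submodule.smul_mem_smul hw Submodule.mem_top
    have hsurj : Function.Surjective (WittVector.constantCoeff : WittVector p R →+* R) := fun s =>
      ⟨WittVector.teichmuller p s, WittVector.teichmuller_coeff_zero p s⟩
    let ρ : R →+* AddMonoid.End N :=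
      RingHom.liftOfSurjective (WittVector.constantCoeff : WittVector p R →+* R) hsurj
        ⟨Module.toAddMonoidEnd (WittVector p R) N, hker⟩
    letI : Module R N := Module.compHom N ρ
    have hsmul : ∀ (w : WittVector p R) (m : N),
        (WittVector.constantCoeff w : R) • m = w • m := fun w m => by
      show ρ (WittVector.constantCoeff w) m = w • m
      simp only [ρ, RingHom.liftOfRightInverse_comp_apply]
      rfl
    let η : P →ₗ[WittVector p S] P := LinearMap.id - πL hLT
    let μ : P →+ N := (Submodule.mkQ _).toAddMonoidHom.comp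
      ((Dieu.BC.ι (WittVector.map f : WittVector p S →+* WittVector p R) P).toAddMonoidHom.comp
        η.toAddMonoidHom)
    have hμQ : ∀ q ∈ D.Q, μ q = 0 := by
      intro q hq
      show Submodule.Quotient.mk (Dieu.BC.tmul _ 1 (q - πL hLT q)) = (0 : N)
      rw [Submodule.Quotient.mk_eq_zero]
      have hq' : q ∈ L ⊔ IV p S • T := hQ ▸ hq
      obtain ⟨l, hl, i, hi, rfl⟩ := Submodule.mem_sup.1 hq'
      rw [map_add, πL_of_mem hLT hl, πL_of_mem' hLT (Submodule.smul_le_right hi), add_zero,
        add_sub_cancel_left]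
      refine Submodule.smul_induction_on hi (fun r hr t _ => ?_) (fun a b ha hb => ?_)
      · obtain ⟨y, rfl⟩ := mem_IV_iff.1 hr
        rw [← Dieu.BC.tmul_apply_eq, Dieu.BC.tmul_eq_smul_tmul_one, map_verschiebung]
        exact Submodule.smul_mem_smul (verschiebung_mem_IV p R _) Submodule.mem_top
      · rw [Dieu.BC.tmul_add]; exact add_mem ha hb
    let ψ : (P ⧸ D.Q) →ₛₗ[(WittVector.constantCoeff : WittVector p R →+* R).comp
        (WittVector.map f : WittVector p S →+* WittVector p R)] N :=
      { toFun := QuotientAddGroup.lift D.Q.toAddSubgroup μ (fun q hq => hμQ q hq)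
        map_add' := fun a b => map_add _ a b
        map_smul' := fun w m => by
          obtain ⟨x, rfl⟩ := Submodule.Quotient.mk_surjective _ m
          show μ (w • x) = (WittVector.constantCoeff (WittVector.map f w) : R) • μ x
          rw [hsmul]
          show Submodule.Quotient.mk (Dieu.BC.ι (WittVector.map f : WittVector p S →+* WittVector p R) P
            (η (w • x))) = _
          rw [map_smul, LinearMap.map_smulₛₗ, Submodule.Quotient.mk_smul]
          rfl }
    have hcomp : ∀ z, Dieu.BC.lift _ ψ (Dieu.bcQuotMap f D.Q z) =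
        Submodule.Quotient.mk (z - πR f hLT z) := by
      intro z
      induction z using Dieu.BC.induction_on with
      | zero => simp only [map_zero, sub_zero, Submodule.Quotient.mk_zero]
      | tmul w x =>
        rw [Dieu.bcQuotMap_tmul, Dieu.BC.lift_tmul, hsmul, πR, Dieu.BC.map_tmul,
          Dieu.BC.tmul_eq_smul_tmul_one _ w x, Dieu.BC.tmul_eq_smul_tmul_one _ w (πL hLT x),
          ← smul_sub, Submodule.Quotient.mk_smul]
        congr 1
        show Submodule.Quotient.mk (Dieu.BC.ι _ P (x - πL hLT x)) = _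
        rw [map_sub]
        rfl
      | add z z' e e' =>
        rw [map_add, map_add, e, e', ← Submodule.Quotient.mk_add, map_add, add_sub_add_comm]
    have := hcomp z
    rw [LinearMap.mem_ker.1 hz, map_zero] at this
    exact (mem_mkQ' _).2 ((Submodule.Quotient.mk_eq_zero _).1 this.symm)
  · rw [LinearMap.mem_ker, ← sub_add_cancel z (πR f hLT z), map_add, hπ0, add_zero]
    refine Submodule.smul_induction_on ((mem_mkQ' _).1 hz) (fun r hr t _ => ?_) (fun a b ha hb => ?_)
    · rw [IV_eq_ker, RingHom.mem_ker] at hr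
      rw [LinearMap.map_smulₛₗ, hr, zero_smul]
    · rw [map_add, ha, hb, add_zero]

theorem exists_bc : ∃! DR : Display3n p R (Dieu.BC (WittVector.map f : WittVector p S →+* WittVector p R) P),
    Dieu.IsDispBaseChange f D DR := by
  obtain ⟨L, T, hLT, hQ⟩ := D.exists_normal
  have hLQ : L ≤ D.Q := hQ ▸ le_sup_left
  haveI := D.finite
  haveI := D.projective
  haveI hfin := finite_BC (WittVector.map f : WittVector p S →+* WittVector p R) P
  haveI hproj := projective_BC (WittVector.map f : WittVector p S →+* WittVector p R) P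
  obtain ⟨n, e, φ, hφ⟩ :=
    exists_coord (A := WittVector p R) (M := Dieu.BC (WittVector.map f : WittVector p S →+* WittVector p R) P)
  have hπ := πR_idem f hLT
  have hFπ : ∀ z, bcSemi f D.F (πR f hLT z) =
      (p : WittVector p R) • bcSemi f (psi D hLT hLQ) (πR f hLT z) := by
    intro z
    induction z using Dieu.BC.induction_on with
    | zero => simp only [map_zero, smul_zero]
    | tmul w x =>
      rw [πR, Dieu.BC.map_tmul, bcSemi_tmul, bcSemi_tmul, psi_L D hLT hLQ (πL_mem hLT x)]
      have e := F_coe D ⟨πL hLT x, hLQ (πL_mem hLT x)⟩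
      rw [show D.F (πL hLT x) = _ from e, Dieu.BC.smul_tmul, mul_comm, ← map_natCast
          (WittVector.map f : WittVector p S →+* WittVector p R) p, Dieu.BC.tmul_mul_apply]
    | add z z' e e' => simp only [map_add, smul_add, e, e']
  have hspan : Submodule.span (WittVector p R)
      (Set.range (fun x => bcSemi f (psi D hLT hLQ) (πR f hLT x)) ∪ Set.range (bcSemi f D.F)) = ⊤ := by
    rw [eq_top_iff, ← span_ι (WittVector.map f : WittVector p S →+* WittVector p R) P
      D.span_range_Vinv, Submodule.span_le]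
    rintro _ ⟨y, rfl⟩
    let Ssp : Submodule (WittVector p R) (Dieu.BC (WittVector.map f : WittVector p S →+* WittVector p R) P) :=
      Submodule.span (WittVector p R)
        (Set.range (fun x => bcSemi f (psi D hLT hLQ) (πR f hLT x)) ∪ Set.range (bcSemi f D.F))
    let M : Submodule (WittVector p S) P :=
      { carrier := {x | Dieu.BC.tmul (WittVector.map f : WittVector p S →+* WittVector p R) 1 x ∈ Ssp}
        zero_mem' := by show Dieu.BC.tmul _ 1 0 ∈ Ssp; rw [Dieu.BC.tmul_zero]; exact zero_mem _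
        add_mem' := fun {a b} ha hb => by
          show Dieu.BC.tmul _ 1 (a + b) ∈ Ssp
          rw [Dieu.BC.tmul_add]; exact add_mem ha hb
        smul_mem' := fun c x hx => by
          show Dieu.BC.tmul _ 1 (c • x) ∈ Ssp
          rw [← Dieu.BC.tmul_apply_eq, Dieu.BC.tmul_eq_smul_tmul_one]
          exact Ssp.smul_mem _ hx }
    show D.Vinv y ∈ M
    refine Vinv_mem_span D hQ hLQ M (fun l => Submodule.subset_span (Or.inl
      ⟨Dieu.BC.tmul _ 1 (l : P), ?_⟩)) (fun t => Submodule.subset_span (Or.inr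
      ⟨Dieu.BC.tmul _ 1 (t : P), ?_⟩)) y
    · show bcSemi f _ (πR f hLT _) = _
      rw [πR, Dieu.BC.map_tmul, πL_of_mem hLT l.2, bcSemi_tmul, map_one, psi_L D hLT hLQ l.2]
    · rw [bcSemi_tmul, map_one]
  let DR := mkDisplay hfin hproj (πR f hLT) hπ (bcSemi f D.F) (bcSemi f (psi D hLT hLQ)) hFπ hspan e φ hφ
  have hDRQ : DR.Q = LinearMap.ker (Dieu.bcQuotMap f D.Q) := (ker_bcQuotMap f D hLT hQ).symm
  have hmem : ∀ y : D.Q, Dieu.BC.tmul (WittVector.map f : WittVector p S →+* WittVector p R) 1 (y : P) ∈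
      DR.Q := by
    intro y
    rw [hDRQ, LinearMap.mem_ker, Dieu.bcQuotMap_tmul, Submodule.mkQ_apply,
      (Submodule.Quotient.mk_eq_zero _).2 y.2, Dieu.BC.tmul_zero]
  have hV : ∀ (y : D.Q), DR.Vinv ⟨_, hmem y⟩ =
      Dieu.BC.tmul (WittVector.map f : WittVector p S →+* WittVector p R) 1 (D.Vinv y) := by
    intro y
    refine (Q_induction D hQ (motive := fun x => ∀ hx : x ∈ D.Q, DR.Vinv ⟨_, hmem ⟨x, hx⟩⟩ =
      Dieu.BC.tmul (WittVector.map f : WittVector p S →+* WittVector p R) 1 (D.Vinv ⟨x, hx⟩))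
      (fun l hl hx => ?_) (fun w t ht hx => ?_) (fun a b ha hb iha ihb hx => ?_) y) y.2
    · have e1 : πR f hLT (Dieu.BC.tmul _ 1 l) = Dieu.BC.tmul _ 1 l := by
        rw [πR, Dieu.BC.map_tmul, πL_of_mem hLT hl]
      have h' : πR f hLT (Dieu.BC.tmul _ 1 l) ∈ DR.Q := by rw [e1]; exact hmem ⟨l, hx⟩
      rw [Vinv_congr DR (y' := ⟨_, h'⟩) e1.symm]
      refine (mkVinv_π _ hπ _ _ e φ _ _).trans ?_
      rw [e1, bcSemi_tmul, map_one, psi_L D hLT hLQ hl]
    · have e1 : Dieu.BC.tmul (WittVector.map f : WittVector p S →+* WittVector p R) 1 (verschiebung w • t) =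
          verschiebung (WittVector.map f w) •
            Dieu.BC.tmul (WittVector.map f : WittVector p S →+* WittVector p R) 1 t := by
        rw [← Dieu.BC.tmul_apply_eq, map_verschiebung, Dieu.BC.tmul_eq_smul_tmul_one]
      rw [Vinv_congr DR (y' := ⟨_, verschiebung_smul_mem DR _ _⟩) e1, DR.Vinv_verschiebung_smul,
        Vinv_congr D (y' := ⟨_, verschiebung_smul_mem D w t⟩) rfl, D.Vinv_verschiebung_smul,
        ← Dieu.BC.tmul_apply_eq, Dieu.BC.tmul_eq_smul_tmul_one _ (WittVector.map f w)]
      show _ • bcSemi f D.F _ = _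
      rw [bcSemi_tmul, map_one]
    · rw [Vinv_congr DR (y' := ⟨_, hmem ⟨a, ha⟩⟩ + ⟨_, hmem ⟨b, hb⟩⟩) (Dieu.BC.tmul_add _ _ _ _),
        Vinv_congr D (y := ⟨a + b, hx⟩) (y' := ⟨a, ha⟩ + ⟨b, hb⟩) rfl, map_add, map_add, iha, ihb, Dieu.BC.tmul_add]
  refine ⟨DR, ⟨hDRQ, fun w x => bcSemi_tmul f D.F w x, fun w y h => ?_, fun w x h => ?_⟩, ?_⟩
  · rw [Vinv_congr DR (y' := w • ⟨_, hmem y⟩) (Dieu.BC.tmul_eq_smul_tmul_one _ w _), Vinv_smul, hV,
      Dieu.BC.smul_tmul, mul_one]
  · rw [Vinv_congr DR (y' := ⟨_, verschiebung_smul_mem DR w (Dieu.BC.tmul _ 1 x)⟩)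
      (Dieu.BC.tmul_eq_smul_tmul_one _ _ _), DR.Vinv_verschiebung_smul]
    show w • bcSemi f D.F _ = _
    rw [bcSemi_tmul, map_one, Dieu.BC.smul_tmul, mul_one]
  · intro DR' h'
    have hF : ∀ z, DR'.F z = DR.F z := fun z =>
      LinearMap.congr_fun (bcSemi_ext f (a := DR'.F) (b := DR.F) fun x =>
        (h'.F_tmul 1 x).trans (bcSemi_tmul f D.F 1 x).symm) z
    have hQe : DR'.Q = DR.Q := h'.Q_eq.trans hDRQ.symm
    let L' : Submodule (WittVector p R) (Dieu.BC (WittVector.map f : WittVector p S →+* WittVector p R) P) :=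
      Submodule.span (WittVector p R) (Set.range fun y : D.Q => Dieu.BC.tmul _ 1 (y : P))
    have hL'Q : L' ≤ DR.Q := Submodule.span_le.2 (by rintro _ ⟨y, rfl⟩; exact hmem y)
    refine display_ext' hQe hF (L := L') ?_ (hQe ▸ hL'Q) fun z hz => ?_
    · intro z hz
      rw [hQe] at hz
      rw [← sub_add_cancel z (πR f hLT z)]
      refine add_mem (Submodule.mem_sup_right hz) (Submodule.mem_sup_left ?_)
      clear hz
      induction z using Dieu.BC.induction_on with
      | zero => rw [map_zero]; exact zero_mem _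
      | tmul w x =>
        rw [πR, Dieu.BC.map_tmul, Dieu.BC.tmul_eq_smul_tmul_one]
        exact Submodule.smul_mem _ w (Submodule.subset_span ⟨⟨_, hLQ (πL_mem hLT x)⟩, rfl⟩)
      | add z z' e e' => rw [map_add]; exact add_mem e e'
    · suffices H : ∀ z (hz : z ∈ L') (h1 : z ∈ DR'.Q) (h2 : z ∈ DR.Q), DR'.Vinv ⟨z, h1⟩ = DR.Vinv ⟨z, h2⟩
        from H z hz _ _
      intro z hz
      induction hz using Submodule.span_induction with
      | mem z hz =>
        obtain ⟨y, rfl⟩ := hz
        intro h1 h2
        rw [h'.Vinv_tmul 1 y h1, map_one, hV]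
      | zero =>
        intro h1 h2
        rw [show (⟨0, h1⟩ : DR'.Q) = 0 from rfl, show (⟨0, h2⟩ : DR.Q) = 0 from rfl, map_zero, map_zero]
      | add a b ha hb iha ihb =>
        intro h1 h2
        rw [show (⟨a + b, h1⟩ : DR'.Q) = ⟨a, hQe ▸ hL'Q ha⟩ + ⟨b, hQe ▸ hL'Q hb⟩ from rfl,
          show (⟨a + b, h2⟩ : DR.Q) = ⟨a, hL'Q ha⟩ + ⟨b, hL'Q hb⟩ from rfl, map_add, map_add,
          iha _ (hL'Q ha), ihb _ (hL'Q hb)]
      | smul c a ha iha =>
        intro h1 h2
        rw [show (⟨c • a, h1⟩ : DR'.Q) = c • ⟨a, hQe ▸ hL'Q ha⟩ from rfl,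
          show (⟨c • a, h2⟩ : DR.Q) = c • ⟨a, hL'Q ha⟩ from rfl, Vinv_smul, Vinv_smul, iha _ (hL'Q ha)]

end Groth.Agent.DispLib
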