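import Groth.Agent.DispLib.BCDisp

/-! The base change of a display is a display. -/

set_option autoImplicit false

universe u v

noncomputable section

namespace Groth.Agent.DispLib

open WittVector W4c1extbt610

variable {p : ℕ} [Fact p.Prime] {S R : Type u} [CommRing S] [CommRing R] (f : S →+* R)
  {P : Type v} [AddCommGroup P] [Module (WittVector p S) P]


theorem map_frobenius_pow : ∀ (m : ℕ) (w : WittVector p S),
    WittVector.map f (((WittVector.frobenius : WittVector p S →+* WittVector p S) ^ m) w) = ((WittVector.frobenius : WittVector p R →+* WittVector p R) ^ m) (WittVector.map f w)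
  | 0, w => rfl
  | m + 1, w => by
    rw [pow_succ', pow_succ']
    show WittVector.map f (frobenius (((WittVector.frobenius : WittVector p S →+* WittVector p S) ^ m) w)) = frobenius (((WittVector.frobenius : WittVector p R →+* WittVector p R) ^ m) (WittVector.map f w))
    rw [map_frobenius', map_frobenius_pow m w]

variable {σ : WittVector p S →+* WittVector p S} {σ' : WittVector p R →+* WittVector p R}

/-- `w ⊗ y ↦ (WittVector.map f : WittVector p S →+* WittVector p R) w ⊗ (1 ⊗ y)`. -/
def theta (h : ∀ a, WittVector.map f (σ a) = σ' (WittVector.map f a)) :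
    Dieu.BC σ P →ₛₗ[(WittVector.map f : WittVector p S →+* WittVector p R)] Dieu.BC σ' (Dieu.BC (WittVector.map f : WittVector p S →+* WittVector p R) P) :=
  let ι' : P →ₛₗ[(WittVector.map f : WittVector p S →+* WittVector p R).comp σ] Dieu.BC σ' (Dieu.BC (WittVector.map f : WittVector p S →+* WittVector p R) P) :=
    { toFun := fun y => Dieu.BC.ι σ' _ (Dieu.BC.ι (WittVector.map f : WittVector p S →+* WittVector p R) P y)
      map_add' := fun a b => by rw [map_add, map_add]
      map_smul' := fun a x => by
        rw [LinearMap.map_smulₛₗ, LinearMap.map_smulₛₗ, ← h a]; rfl }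
  { toFun := fun z => Dieu.BC.lift ((WittVector.map f : WittVector p S →+* WittVector p R).comp σ) ι' (Dieu.BC.push σ (WittVector.map f : WittVector p S →+* WittVector p R) z)
    map_add' := fun a b => by rw [map_add, map_add]
    map_smul' := fun a z => by rw [LinearMap.map_smulₛₗ, map_smul] }

theorem theta_tmul (h : ∀ a, WittVector.map f (σ a) = σ' (WittVector.map f a))
    (w : WittVector p S) (y : P) :
    theta f h (Dieu.BC.tmul σ w y) = Dieu.BC.tmul σ' (WittVector.map f w) (Dieu.BC.tmul (WittVector.map f : WittVector p S →+* WittVector p R) 1 y) := by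
  simp only [theta, LinearMap.coe_mk, AddHom.coe_mk]
  rw [Dieu.BC.push_tmul, Dieu.BC.lift_tmul]
  show WittVector.map f w • Dieu.BC.tmul σ' 1 (Dieu.BC.tmul (WittVector.map f : WittVector p S →+* WittVector p R) 1 y) = _
  rw [Dieu.BC.smul_tmul, mul_one]

variable (Vs : P →ₗ[WittVector p S] Dieu.BC (WittVector.frobenius : WittVector p S →+* WittVector p S) P)

/-- `V#` of the base change. -/
def VsR : Dieu.BC (WittVector.map f : WittVector p S →+* WittVector p R) P →ₗ[WittVector p R] Dieu.BC (WittVector.frobenius : WittVector p R →+* WittVector p R) (Dieu.BC (WittVector.map f : WittVector p S →+* WittVector p R) P) :=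
  Dieu.BC.lift (WittVector.map f : WittVector p S →+* WittVector p R) ((theta f (σ := (WittVector.frobenius : WittVector p S →+* WittVector p S)) (σ' := (WittVector.frobenius : WittVector p R →+* WittVector p R)) (map_frobenius' f)).comp Vs)

theorem VsR_tmul (w : WittVector p R) (x : P) :
    VsR f Vs (Dieu.BC.tmul (WittVector.map f : WittVector p S →+* WittVector p R) w x) = w • theta f (σ := (WittVector.frobenius : WittVector p S →+* WittVector p S)) (σ' := (WittVector.frobenius : WittVector p R →+* WittVector p R)) (map_frobenius' f) (Vs x) := by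
  rw [VsR, Dieu.BC.lift_tmul]; rfl

theorem pow_VsR : ∀ (n : ℕ) (x : P), Dieu.vSharpPow (VsR f Vs) n (Dieu.BC.tmul (WittVector.map f : WittVector p S →+* WittVector p R) 1 x) =
    theta f (σ := (WittVector.frobenius : WittVector p S →+* WittVector p S) ^ (n + 1)) (σ' := (WittVector.frobenius : WittVector p R →+* WittVector p R) ^ (n + 1)) (map_frobenius_pow f (n + 1)) (Dieu.vSharpPow Vs n x)
  | 0, x => by
    rw [Dieu.vSharpPow_zero_apply, Dieu.vSharpPow_zero_apply, VsR_tmul, one_smul]
    generalize Vs x = z
    induction z using Dieu.BC.induction_on with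
    | zero => simp only [map_zero]
    | add a b ha hb => simp only [map_add, ha, hb]
    | tmul w y => rw [theta_tmul, Dieu.BC.castHom_tmul, Dieu.BC.castHom_tmul, theta_tmul]
  | n + 1, x => by
    rw [Dieu.vSharpPow_succ_apply, Dieu.vSharpPow_succ_apply, VsR_tmul, one_smul]
    generalize Vs x = z
    induction z using Dieu.BC.induction_on with
    | zero => simp only [map_zero]
    | add a b ha hb => simp only [map_add, ha, hb]
    | tmul w y =>
      rw [theta_tmul, Dieu.BC.map_tmul, Dieu.BC.map_tmul, Dieu.BC.lift_tmul, Dieu.BC.lift_tmul,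
        map_smul, map_smul, LinearMap.map_smulₛₗ, pow_VsR n y]
      congr 1
      generalize Dieu.vSharpPow Vs n y = v
      induction v using Dieu.BC.induction_on with
      | zero => simp only [map_zero]
      | add a b ha hb => simp only [map_add, ha, hb]
      | tmul u t =>
        rw [theta_tmul, Dieu.BC.push_tmul, Dieu.BC.castHom_tmul, Dieu.BC.push_tmul, Dieu.BC.castHom_tmul,
          theta_tmul, map_frobenius']

theorem map_J_le {x : WittVector p S} (hx : x ∈ IV p S ⊔ Ideal.span {(p : WittVector p S)}) :
    WittVector.map f x ∈ IV p R ⊔ Ideal.span {(p : WittVector p R)} := by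
  obtain ⟨a, ha, b, hb, rfl⟩ := Submodule.mem_sup.1 hx
  obtain ⟨y, rfl⟩ := mem_IV_iff.1 ha
  obtain ⟨c, rfl⟩ := Ideal.mem_span_singleton'.1 hb
  rw [map_add, map_verschiebung, map_mul, map_natCast]
  exact Submodule.add_mem_sup (verschiebung_mem_IV p R _)
    (Ideal.mul_mem_left _ _ (Ideal.mem_span_singleton_self _))

theorem isDisplay_bc {D : Display3n p S P} (hD : Dieu.IsDisplay D) {DR : Display3n p R (Dieu.BC (WittVector.map f : WittVector p S →+* WittVector p R) P)}
    (hDR : Dieu.IsDispBaseChange f D DR) : Dieu.IsDisplay DR := by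
  obtain ⟨Vs, hVs, N, hN⟩ := hD
  have hF : ∀ z, VsR f Vs (DR.F z) = (p : WittVector p R) • Dieu.BC.tmul (WittVector.frobenius : WittVector p R →+* WittVector p R) 1 z := by
    intro z
    induction z using Dieu.BC.induction_on with
    | zero => rw [map_zero, map_zero, Dieu.BC.tmul_zero, smul_zero]
    | add a b ha hb => rw [map_add, map_add, ha, hb, Dieu.BC.tmul_add, smul_add]
    | tmul w x =>
      have h1 := hVs.app_smul_F 1 x
      rw [one_smul] at h1
      rw [hDR.F_tmul, VsR_tmul, h1, LinearMap.map_smulₛₗ, theta_tmul, map_natCast, map_one,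
        smul_smul, mul_comm, ← smul_smul, Dieu.BC.tmul_eq_smul_tmul_one (WittVector.map f : WittVector p S →+* WittVector p R) w x, ← Dieu.BC.tmul_apply_eq,
        Dieu.BC.tmul_eq_smul_tmul_one (WittVector.frobenius : WittVector p R →+* WittVector p R) (frobenius w)]
  obtain ⟨L, T, hLT, hQ⟩ := D.exists_normal
  have hLQ : L ≤ D.Q := hQ ▸ le_sup_left
  have hQR : DR.Q = mkQ' (πR f hLT) := hDR.Q_eq.trans (ker_bcQuotMap f D hLT hQ)
  have hV1 : ∀ (z : DR.Q), VsR f Vs (DR.Vinv z) = Dieu.BC.tmul (WittVector.frobenius : WittVector p R →+* WittVector p R) 1 (z : Dieu.BC (WittVector.map f : WittVector p S →+* WittVector p R) P) := by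
    have hπ : ∀ z, πR f hLT z ∈ DR.Q := fun z => by
      rw [hQR, mem_mkQ', πR_idem, sub_self]; exact zero_mem _
    have hA : ∀ z, VsR f Vs (DR.Vinv ⟨_, hπ z⟩) = Dieu.BC.tmul (WittVector.frobenius : WittVector p R →+* WittVector p R) 1 (πR f hLT z) := by
      intro z
      induction z using Dieu.BC.induction_on with
      | zero =>
        rw [Vinv_congr DR (y' := 0) (map_zero _), map_zero, map_zero, map_zero, Dieu.BC.tmul_zero]
      | add a b ha hb =>
        rw [Vinv_congr DR (y' := ⟨_, hπ a⟩ + ⟨_, hπ b⟩) (map_add _ a b), map_add, map_add, ha, hb,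
          map_add, Dieu.BC.tmul_add]
      | tmul w x =>
        have e : πR f hLT (Dieu.BC.tmul (WittVector.map f : WittVector p S →+* WittVector p R) w x) = Dieu.BC.tmul (WittVector.map f : WittVector p S →+* WittVector p R) w (πL hLT x) := by
          rw [πR, Dieu.BC.map_tmul]
        have h1 := hVs.app_smul_Vinv 1 ⟨πL hLT x, hLQ (πL_mem hLT x)⟩
        rw [one_smul] at h1
        rw [Vinv_congr DR (y' := ⟨Dieu.BC.tmul (WittVector.map f : WittVector p S →+* WittVector p R) w (πL hLT x), by rw [← e]; exact hπ _⟩) e,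
          hDR.Vinv_tmul w ⟨πL hLT x, hLQ (πL_mem hLT x)⟩, VsR_tmul, h1, theta_tmul, map_one, e,
          Dieu.BC.tmul_eq_smul_tmul_one (WittVector.map f : WittVector p S →+* WittVector p R) w, ← Dieu.BC.tmul_apply_eq,
          Dieu.BC.tmul_eq_smul_tmul_one (WittVector.frobenius : WittVector p R →+* WittVector p R) (frobenius w)]
    have hB : ∀ i (hi : i ∈ IV p R • (⊤ : Submodule (WittVector p R) (Dieu.BC (WittVector.map f : WittVector p S →+* WittVector p R) P))),
        VsR f Vs (DR.Vinv ⟨i, DR.IV_smul_le hi⟩) = Dieu.BC.tmul (WittVector.frobenius : WittVector p R →+* WittVector p R) 1 i := by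
      intro i hi
      refine Submodule.smul_induction_on' hi (fun r hr x _ => ?_) (fun a ha b hb iha ihb => ?_)
      · obtain ⟨u, rfl⟩ := mem_IV_iff.1 hr
        rw [DR.Vinv_verschiebung_smul, map_smul, hF, smul_smul, ← Dieu.BC.tmul_apply_eq,
          frobenius_verschiebung, Dieu.BC.tmul_eq_smul_tmul_one (WittVector.frobenius : WittVector p R →+* WittVector p R) (u * _)]
      · rw [show (⟨a + b, _⟩ : DR.Q) = ⟨a, DR.IV_smul_le ha⟩ + ⟨b, DR.IV_smul_le hb⟩ from rfl,
          map_add, map_add, iha, ihb, Dieu.BC.tmul_add]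
    intro z
    have hz : (z : Dieu.BC (WittVector.map f : WittVector p S →+* WittVector p R) P) - πR f hLT z ∈ IV p R • (⊤ : Submodule (WittVector p R) (Dieu.BC (WittVector.map f : WittVector p S →+* WittVector p R) P)) :=
      (mem_mkQ' _).1 (hQR ▸ z.2)
    rw [Vinv_congr DR (y' := ⟨_, hπ z⟩ + ⟨_, DR.IV_smul_le hz⟩) (add_sub_cancel _ _).symm, map_add,
      map_add, hA, hB _ hz, ← Dieu.BC.tmul_add, add_sub_cancel]
  refine ⟨VsR f Vs, ⟨fun w z => ?_, fun w z => ?_⟩, N, fun z => ?_⟩
  · rw [map_smul, hF, smul_smul, mul_comm, ← smul_smul, ← Dieu.BC.tmul_eq_smul_tmul_one]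
  · rw [map_smul, hV1, ← Dieu.BC.tmul_eq_smul_tmul_one]
  · induction z using Dieu.BC.induction_on with
    | zero => rw [map_zero]; exact zero_mem _
    | add a b ha hb => rw [map_add]; exact add_mem ha hb
    | tmul w x =>
      rw [Dieu.BC.tmul_eq_smul_tmul_one (WittVector.map f : WittVector p S →+* WittVector p R) w x, map_smul, pow_VsR]
      refine Submodule.smul_mem _ w ?_
      refine Submodule.smul_induction_on (hN x) (fun j hj v _ => ?_) (fun a b ha hb => ?_)
      · rw [LinearMap.map_smulₛₗ]
        exact Submodule.smul_mem_smul (map_J_le f hj) Submodule.mem_top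
      · rw [map_add]; exact add_mem ha hb

end Groth.Agent.DispLib
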