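import Groth.Prelude.Def_Disp2
import Groth.Agent.CommAlg4.WittTop
import Mathlib.RingTheory.TensorProduct.Finite
import Mathlib.LinearAlgebra.FiniteDimensional.Basic
import Mathlib.RingTheory.Nakayama
import Mathlib.RingTheory.FiniteType

/-! Basic theory of 3n-displays. -/

set_option autoImplicit false

universe u v w

noncomputable section

namespace Groth.Agent.DispLib

open WittVector W4c1extbt610 Groth.Agent.CommAlg4

variable {p : ℕ} [Fact p.Prime] {R : Type u} [CommRing R]


theorem mem_IV_iff {x : (WittVector p R)} : x ∈ IV p R ↔ ∃ y, verschiebung y = x := by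
  refine ⟨fun hx => WittTop.exists_verschiebung_of_mem ?_, fun ⟨y, hy⟩ => hy ▸ verschiebung_mem_IV p R y⟩
  have hle : IV p R ≤ WittTop.augIdeal p R :=
    Ideal.span_le.2 (by rintro _ ⟨y, rfl⟩; exact WittTop.verschiebung_mem y)
  exact hle hx

theorem IV_eq_ker : IV p R = RingHom.ker (constantCoeff : (WittVector p R) →+* R) := by
  ext x
  refine ⟨fun hx => ?_, fun hx => mem_IV_iff.2 (WittTop.exists_verschiebung_of_mem hx)⟩
  obtain ⟨y, rfl⟩ := mem_IV_iff.1 hx
  exact WittTop.verschiebung_mem y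

theorem verschiebung_injective : Function.Injective (verschiebung : (WittVector p R) → (WittVector p R)) := by
  intro a b h
  ext n
  have := congrArg (fun t : (WittVector p R) => t.coeff (n + 1)) h
  simpa [verschiebung_coeff_succ] using this

theorem verschiebung_mul (a b : (WittVector p R)) : verschiebung a * b = verschiebung (a * frobenius b) :=
  (verschiebung_mul_frobenius a b).symm

theorem frobenius_verschiebung_one : frobenius (verschiebung (1 : (WittVector p R))) = (p : (WittVector p R)) := by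
  rw [frobenius_verschiebung, one_mul]

variable {P : Type v} [AddCommGroup P] [Module (WittVector p R) P] (D : Display3n p R P)

theorem verschiebung_smul_mem (w : (WittVector p R)) (x : P) : verschiebung w • x ∈ D.Q :=
  D.IV_smul_le (Submodule.smul_mem_smul (verschiebung_mem_IV p R w) Submodule.mem_top)

theorem Vinv_smul (w : (WittVector p R)) (y : D.Q) : D.Vinv (w • y) = frobenius w • D.Vinv y :=
  D.Vinv.map_smulₛₗ w y

theorem F_smul (w : (WittVector p R)) (x : P) : D.F (w • x) = frobenius w • D.F x := D.F.map_smulₛₗ w x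

theorem Vinv_congr {y y' : D.Q} (h : (y : P) = (y' : P)) : D.Vinv y = D.Vinv y' := by
  rw [Subtype.ext h]

theorem F_eq_Vinv (x : P) : D.F x = D.Vinv ⟨verschiebung (1 : (WittVector p R)) • x, verschiebung_smul_mem D 1 x⟩ := by
  rw [D.Vinv_verschiebung_smul, one_smul]

theorem F_coe (y : D.Q) : D.F (y : P) = (p : (WittVector p R)) • D.Vinv y := by
  rw [F_eq_Vinv, ← frobenius_verschiebung_one, ← Vinv_smul]
  exact Vinv_congr D rfl

theorem ext_of_Vinv {N : Type w} [AddCommGroup N] [Module (WittVector p R) N] {f g : P →ₗ[(WittVector p R)] N}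
    (h : ∀ y : D.Q, f (D.Vinv y) = g (D.Vinv y)) : f = g :=
  LinearMap.ext_on D.span_range_Vinv (by rintro _ ⟨y, rfl⟩; exact h y)


/-- Induction over `Q` along a normal decomposition. -/
theorem Q_induction {L T : Submodule (WittVector p R) P} (hQ : D.Q = L ⊔ IV p R • T) {motive : P → Prop}
    (hl : ∀ l ∈ L, motive l) (ht : ∀ (w : (WittVector p R)) (t : P), t ∈ T → motive (verschiebung w • t))
    (hadd : ∀ a b, a ∈ D.Q → b ∈ D.Q → motive a → motive b → motive (a + b)) (y : D.Q) :
    motive (y : P) := by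
  obtain ⟨y, hy⟩ := y
  have hy' : y ∈ L ⊔ IV p R • T := hQ ▸ hy
  obtain ⟨l, hl', z, hz, rfl⟩ := Submodule.mem_sup.1 hy'
  have hle : IV p R • T ≤ D.Q := hQ ▸ le_sup_right
  refine hadd l z (hQ ▸ Submodule.mem_sup_left hl') (hle hz) (hl l hl') ?_
  refine Submodule.smul_induction_on' hz (fun r hr x hx => ?_) (fun a ha b hb ha' hb' =>
    hadd a b (hle ha) (hle hb) ha' hb')
  obtain ⟨w, rfl⟩ := mem_IV_iff.1 hr
  exact ht w x hx

/-- Extensionality for semilinear maps on `Q` along a normal decomposition. -/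
theorem Vinv_mem_span {L T : Submodule (WittVector p R) P} (hQ : D.Q = L ⊔ IV p R • T) (hLQ : L ≤ D.Q)
    (M : Submodule (WittVector p R) P) (hl : ∀ l : L, D.Vinv ⟨(l : P), hLQ l.2⟩ ∈ M) (ht : ∀ t : T, D.F t ∈ M)
    (y : D.Q) : D.Vinv y ∈ M := by
  refine (Q_induction D hQ (motive := fun z => ∀ hz : z ∈ D.Q, D.Vinv ⟨z, hz⟩ ∈ M)
    (fun l hl' hz => hl ⟨l, hl'⟩) (fun w t ht' hz => ?_) (fun a b ha hb iha ihb hz => ?_) y) y.2
  · rw [Vinv_congr D (y' := ⟨verschiebung w • t, verschiebung_smul_mem D w t⟩) rfl,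
      D.Vinv_verschiebung_smul]
    exact M.smul_mem w (ht ⟨t, ht'⟩)
  · rw [show (⟨a + b, hz⟩ : D.Q) = ⟨a, ha⟩ + ⟨b, hb⟩ from rfl, map_add]
    exact M.add_mem (iha ha) (ihb hb)

/-! ### The linearised structure map -/

variable {L T : Submodule (WittVector p R) P}

/-- Projection to `L`, as a map to `P`. -/
def πL (hLT : IsCompl L T) : P →ₗ[(WittVector p R)] P := L.subtype ∘ₗ L.projectionOnto T hLT

theorem πL_mem (hLT : IsCompl L T) (x : P) : πL hLT x ∈ L := (L.projectionOnto T hLT x).2

theorem sub_πL_mem (hLT : IsCompl L T) (x : P) : x - πL hLT x ∈ T := by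
  have h : πL hLT x + πL hLT.symm x = x := Submodule.projection_add_projection_eq_self hLT x
  rw [show x - πL hLT x = πL hLT.symm x from sub_eq_iff_eq_add'.2 h.symm]
  exact (T.projectionOnto L hLT.symm x).2

theorem πL_of_mem (hLT : IsCompl L T) {x : P} (hx : x ∈ L) : πL hLT x = x := by
  simp [πL, Submodule.projectionOnto_apply_left hLT ⟨x, hx⟩]

theorem πL_of_mem' (hLT : IsCompl L T) {x : P} (hx : x ∈ T) : πL hLT x = 0 := by
  simp [πL, Submodule.projectionOnto_apply_eq_zero_iff hLT |>.2 hx]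

/-- `x ↦ V⁻¹ (l) + F (t)` for `x = l + t`. -/
def psi (hLT : IsCompl L T) (hLQ : L ≤ D.Q) : P →ₛₗ[(WittVector.frobenius : (WittVector p R) →+* (WittVector p R))] P where
  toFun x := D.Vinv ⟨πL hLT x, hLQ (πL_mem hLT x)⟩ + D.F (x - πL hLT x)
  map_add' x y := by
    rw [Vinv_congr D (y := ⟨πL hLT (x + y), hLQ (πL_mem hLT _)⟩)
      (y' := ⟨πL hLT x, hLQ (πL_mem hLT x)⟩ + ⟨πL hLT y, hLQ (πL_mem hLT y)⟩) (map_add _ x y),
      map_add, map_add, add_sub_add_comm, map_add]
    abel
  map_smul' c x := by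
    rw [Vinv_congr D (y := ⟨πL hLT (c • x), hLQ (πL_mem hLT _)⟩)
      (y' := c • ⟨πL hLT x, hLQ (πL_mem hLT x)⟩) (map_smul _ c x),
      Vinv_smul, map_smul, ← smul_sub, F_smul, smul_add]

theorem psi_L (hLT : IsCompl L T) (hLQ : L ≤ D.Q) {l : P} (hl : l ∈ L) :
    psi D hLT hLQ l = D.Vinv ⟨l, hLQ hl⟩ := by
  show D.Vinv ⟨πL hLT l, _⟩ + D.F (l - πL hLT l) = _
  rw [Vinv_congr D (y' := ⟨l, hLQ hl⟩) (πL_of_mem hLT hl), πL_of_mem hLT hl, sub_self, map_zero,
    add_zero]

theorem psi_T (hLT : IsCompl L T) (hLQ : L ≤ D.Q) {t : P} (ht : t ∈ T) :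
    psi D hLT hLQ t = D.F t := by
  show D.Vinv ⟨πL hLT t, _⟩ + D.F (t - πL hLT t) = _
  rw [Vinv_congr D (y' := 0) (πL_of_mem' hLT ht), πL_of_mem' hLT ht, sub_zero, map_zero, zero_add]

theorem span_range_psi (hLT : IsCompl L T) (hQ : D.Q = L ⊔ IV p R • T) (hLQ : L ≤ D.Q) :
    Submodule.span (WittVector p R) (Set.range (psi D hLT hLQ)) = ⊤ := by
  rw [eq_top_iff, ← D.span_range_Vinv, Submodule.span_le]
  rintro _ ⟨y, rfl⟩
  exact Vinv_mem_span D hQ hLQ (Submodule.span _ (Set.range (psi D hLT hLQ)))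
    (fun l => Submodule.subset_span ⟨l, psi_L D hLT hLQ l.2⟩)
    (fun t => Submodule.subset_span ⟨t, psi_T D hLT hLQ t.2⟩) y

theorem lift_psi_surjective (hLT : IsCompl L T) (hQ : D.Q = L ⊔ IV p R • T) (hLQ : L ≤ D.Q) :
    Function.Surjective (Dieu.BC.lift (WittVector.frobenius : (WittVector p R) →+* (WittVector p R)) (psi D hLT hLQ)) := by
  rw [← LinearMap.range_eq_top, eq_top_iff, ← span_range_psi D hLT hQ hLQ, Submodule.span_le]
  rintro _ ⟨x, rfl⟩
  exact ⟨Dieu.BC.ι (WittVector.frobenius : (WittVector p R) →+* (WittVector p R)) P x, Dieu.BC.lift_ι _ _ x⟩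

/-! ### Maximal ideals of the Witt ring -/

variable (hp : IsNilpotent (p : R))

include hp

theorem IV_le_maximal (m : Ideal (WittVector p R)) [m.IsMaximal] : IV p R ≤ m := by
  obtain ⟨a, ha⟩ := hp
  haveI : IsAdicComplete (Ideal.span {(p : R)}) R :=
    { haus' := fun x hx => by
        have := hx a
        rwa [Ideal.span_singleton_pow, ha, Ideal.span_singleton_zero, Submodule.bot_smul,
          SModEq.bot] at this
      prec' := fun f hf => ⟨f a, fun n => by
        rcases le_total n a with h | h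
        · exact hf h
        · have := hf h
          rw [Ideal.span_singleton_pow, ha, Ideal.span_singleton_zero, Submodule.bot_smul,
            SModEq.bot] at this
          rw [this]⟩ }
  haveI := WittTop.isAdicComplete_augIdeal (p := p) (R := R)
  refine le_trans (fun x hx => ?_) (le_trans (IsAdicComplete.le_jacobson_bot (WittTop.augIdeal p R))
    (sInf_le ⟨bot_le, inferInstance⟩))
  rw [IV_eq_ker] at hx
  exact hx

theorem natCast_mem_maximal (m : Ideal (WittVector p R)) [m.IsMaximal] : (p : (WittVector p R)) ∈ m := by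
  obtain ⟨a, ha⟩ := hp
  refine Ideal.IsPrime.mem_of_pow_mem inferInstance a (IV_le_maximal ⟨a, ha⟩ m ?_)
  rw [IV_eq_ker, RingHom.mem_ker, map_pow, map_natCast, ha]

theorem frobenius_sub_pow_mem (m : Ideal (WittVector p R)) [m.IsMaximal] (x : WittVector p R) :
    frobenius x - x ^ p ∈ m := by
  have hne : Nontrivial R := by
    by_contra hR
    rw [not_nontrivial_iff_subsingleton] at hR
    exact (show m.IsMaximal from inferInstance).ne_top (eq_top_iff.2 fun y _ => by
      rw [show y = 0 from WittVector.ext fun n => Subsingleton.elim _ _]; exact m.zero_mem)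
  haveI : CharP (R ⧸ Ideal.span {(p : R)}) p :=
    CharP.quotient R p (mem_nonunits_iff.2 fun h => not_isUnit_zero (M₀ := R) (by
      obtain ⟨a, ha⟩ := hp
      exact ha ▸ h.pow a))
  set f := Ideal.Quotient.mk (Ideal.span {(p : R)})
  have h0 : f ((frobenius x - x ^ p).coeff 0) = 0 := by
    show f (constantCoeff (frobenius x - x ^ p)) = 0
    rw [map_sub (constantCoeff : WittVector p R →+* R), map_sub f, map_pow constantCoeff, map_pow f,
      sub_eq_zero]
    show f ((frobenius x).coeff 0) = f (x.coeff 0) ^ p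
    rw [← WittVector.map_coeff, WittVector.frobenius_isPoly p |>.map f, WittVector.coeff_frobenius_charP,
      WittVector.map_coeff]
  obtain ⟨a, ha⟩ := Ideal.mem_span_singleton'.1 (Ideal.Quotient.eq_zero_iff_mem.1 h0)
  obtain ⟨y, hy⟩ : ∃ y, verschiebung y = (frobenius x - x ^ p) - teichmuller p a * (p : WittVector p R) := by
    refine WittTop.exists_verschiebung_of_mem ?_
    rw [RingHom.mem_ker, map_sub, map_mul, map_natCast]
    show (frobenius x - x ^ p).coeff 0 - (teichmuller p a).coeff 0 * (p : R) = 0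
    rw [teichmuller_coeff_zero, ha, sub_self]
  rw [← sub_add_cancel (frobenius x - x ^ p) (teichmuller p a * (p : WittVector p R)), ← hy]
  exact add_mem (IV_le_maximal hp m (verschiebung_mem_IV p R y))
    (m.mul_mem_left _ (natCast_mem_maximal hp m))

theorem frobenius_mem_iff (m : Ideal (WittVector p R)) [m.IsMaximal] (x : (WittVector p R)) : frobenius x ∈ m ↔ x ∈ m := by
  have h := frobenius_sub_pow_mem hp m x
  constructor
  · intro hx
    have := sub_mem hx h
    rw [sub_sub_cancel] at this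
    exact Ideal.IsPrime.mem_of_pow_mem inferInstance _ this
  · intro hx
    have := add_mem h (Ideal.pow_mem_of_mem m hx p (Fact.out : p.Prime).pos)
    rwa [sub_add_cancel] at this

end Groth.Agent.DispLib
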