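import Groth.Agent.AdicRing.Basic
import Groth.Agent.CAlgH.PowerSeriesEval
import Mathlib.RingTheory.Henselian
import Mathlib.RingTheory.AdjoinRoot
import Mathlib.RingTheory.Idempotents
import Mathlib.LinearAlgebra.Matrix.Charpoly.LinearMap

/-! Lifting idempotent endomorphisms along a complete ideal. -/

set_option autoImplicit false

universe u v

noncomputable section

namespace Groth.Agent.DispLib

open Polynomial

/-- An endomorphism of a finite module which is idempotent modulo `I M` is congruent to an idempotent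
when the base ring is `I`-adically complete. -/
theorem exists_idempotent_end {A : Type u} [CommRing A] (I : Ideal A) [IsAdicComplete I A]
    {M : Type v} [AddCommGroup M] [Module A M] [Module.Finite A M] (ψ : Module.End A M)
    (hψ : ∀ x, ψ (ψ x) - ψ x ∈ I • (⊤ : Submodule A M)) :
    ∃ e : Module.End A M, e * e = e ∧ ∀ x, e x - ψ x ∈ I • (⊤ : Submodule A M) := by
  nontriviality A using exists_idempotent_end_trivial ψ
  obtain ⟨q, hq, -, hqI, hq0⟩ :=
    LinearMap.exists_monic_and_natDegree_eq_and_coeff_mem_pow_and_aeval_eq_zero A (ψ * ψ - ψ) I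
      (by rintro _ ⟨x, rfl⟩; exact hψ x)
  let g : A[X] := q.comp (X ^ 2 - X)
  have hX : ((X : A[X]) ^ 2 - X).natDegree = 2 := by compute_degree!
  have hXm : ((X : A[X]) ^ 2 - X).Monic := by monicity!
  have hg : g.Monic := hq.comp hXm (by rw [hX]; norm_num)
  let B := AdjoinRoot g
  haveI : Module.Free A B := hg.free_adjoinRoot
  haveI : Module.Finite A B := hg.finite_adjoinRoot
  haveI : IsAdicComplete I B :=
    haveI := AdicRing.isAdicComplete_pi (I := I) (A := A) (Module.Free.ChooseBasisIndex A B)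
    Groth.Agent.CAlgH.isAdicComplete_of_linearEquiv
      (Module.Free.chooseBasis A B).equivFun.symm
  let J : Ideal B := I.map (algebraMap A B)
  haveI : IsAdicComplete J B := (IsAdicComplete.map_algebraMap_iff I B).2 inferInstance
  let x : B := AdjoinRoot.root g
  let u : B := x ^ 2 - x
  have hu : u ^ q.natDegree ∈ J := by
    have h0 : aeval u q = 0 := by
      have : aeval x g = 0 := by rw [AdjoinRoot.aeval_eq, AdjoinRoot.mk_self]
      rwa [aeval_comp, map_sub, map_pow, aeval_X] at this
    rw [aeval_eq_sum_range, Finset.sum_range_succ, hq.coeff_natDegree, one_smul] at h0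
    rw [eq_neg_of_add_eq_zero_right h0]
    refine J.neg_mem (J.sum_mem fun k hk => ?_)
    rw [Algebra.smul_def]
    refine J.mul_mem_right _ (Ideal.mem_map_of_mem _ ?_)
    exact Ideal.pow_le_self (Nat.sub_ne_zero_of_lt (Finset.mem_range.1 hk)) (hqI k)
  let ub : B ⧸ J := Ideal.Quotient.mk J u
  have hker : ∀ z ∈ RingHom.ker (Ideal.Quotient.mk (Ideal.span {ub})), IsNilpotent z := by
    intro z hz
    rw [Ideal.mk_ker, Ideal.mem_span_singleton'] at hz
    obtain ⟨c, rfl⟩ := hz
    exact (Commute.all c ub).isNilpotent_mul_left ⟨q.natDegree, by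
      rw [← map_pow, Ideal.Quotient.eq_zero_iff_mem]; exact hu⟩
  obtain ⟨eb, heb, hebx⟩ := exists_isIdempotentElem_eq_of_ker_isNilpotent
    (Ideal.Quotient.mk (Ideal.span {ub})) hker
    (Ideal.Quotient.mk (Ideal.span {ub}) (Ideal.Quotient.mk J x)) ⟨_, rfl⟩ (by
      show _ * _ = _
      rw [← map_mul, Ideal.Quotient.eq, ← map_mul, ← map_sub, ← pow_two]
      exact Ideal.mem_span_singleton_self _)
  obtain ⟨e₀, rfl⟩ := Ideal.Quotient.mk_surjective eb
  obtain ⟨e, he, hee₀⟩ := HenselianRing.is_henselian (I := J) (X ^ 2 - X : B[X]) (by monicity!) e₀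
    (by
      simp only [eval_sub, eval_pow, eval_X]
      rw [← Ideal.Quotient.eq_zero_iff_mem, map_sub, map_pow, pow_two, heb.eq, sub_self])
    (by
      refine IsUnit.of_mul_eq_one (Ideal.Quotient.mk J (2 * e₀ - 1)) ?_
      simp only [derivative_sub, derivative_X_pow, derivative_X, eval_sub, eval_mul, eval_C, eval_pow,
        eval_X, eval_one, Polynomial.eval_ofNat, map_sub, map_mul, map_natCast, Nat.cast_ofNat, pow_one, map_ofNat, map_one,
        Nat.add_one_sub_one]
      linear_combination (4 : B ⧸ J) * heb.eq)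
  simp only [IsRoot.def, eval_sub, eval_pow, eval_X] at he
  rw [sub_eq_zero, pow_two] at he
  have hex : e - x ∈ Ideal.span {u} ⊔ J := by
    rw [← sub_add_sub_cancel e e₀ x]
    refine add_mem (Ideal.mem_sup_right hee₀) ?_
    rw [Ideal.Quotient.eq, ← map_sub, Ideal.mem_span_singleton'] at hebx
    obtain ⟨c, hc⟩ := hebx
    obtain ⟨c, rfl⟩ := Ideal.Quotient.mk_surjective c
    rw [← map_mul, Ideal.Quotient.eq] at hc
    rw [show e₀ - x = c * u - (c * u - (e₀ - x)) by ring]
    exact Submodule.sub_mem _ (Ideal.mem_sup_left (Ideal.mem_span_singleton'.2 ⟨c, rfl⟩))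
      (Ideal.mem_sup_right hc)
  let Φ : B →ₐ[A] Module.End A M := Ideal.Quotient.liftₐ _ (aeval ψ) fun a ha => by
    obtain ⟨c, rfl⟩ := Ideal.mem_span_singleton'.1 ha
    rw [map_mul, show aeval ψ g = 0 by rw [aeval_comp, map_sub, map_pow, aeval_X, pow_two, hq0], mul_zero]
  have hΦx : Φ x = ψ := aeval_X ψ
  refine ⟨Φ e, by rw [← map_mul, he], fun m => ?_⟩
  have key : ∀ z ∈ Ideal.span {u} ⊔ J, Φ z m ∈ I • (⊤ : Submodule A M) := by
    intro z hz
    obtain ⟨a, ha, b, hb, rfl⟩ := Submodule.mem_sup.1 hz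
    rw [map_add, LinearMap.add_apply]
    refine add_mem ?_ ?_
    · obtain ⟨c, rfl⟩ := Ideal.mem_span_singleton'.1 ha
      rw [mul_comm, map_mul, map_sub, map_pow, hΦx, pow_two]
      exact hψ _
    · have : b ∈ (I • (⊤ : Submodule A B)) := by rwa [Ideal.smul_top_eq_map, Submodule.restrictScalars_mem]
      refine Submodule.smul_induction_on this (fun r hr t _ => ?_) (fun a b ha hb => ?_)
      · rw [map_smul, LinearMap.smul_apply]; exact Submodule.smul_mem_smul hr Submodule.mem_top
      · rw [map_add, LinearMap.add_apply]; exact add_mem ha hb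
  have := key _ hex
  rwa [map_sub, LinearMap.sub_apply, hΦx] at this
where
  exists_idempotent_end_trivial {A : Type u} [CommRing A] [Subsingleton A] {I : Ideal A}
      {M : Type v} [AddCommGroup M] [Module A M] (ψ : Module.End A M) :
      ∃ e : Module.End A M, e * e = e ∧ ∀ x, e x - ψ x ∈ I • (⊤ : Submodule A M) := by
    haveI : Subsingleton M := Module.subsingleton A M
    exact ⟨0, mul_zero _, fun x => by rw [Subsingleton.elim ((0 : Module.End A M) x - ψ x) 0]; exact zero_mem _⟩

end Groth.Agent.DispLib
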