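import Groth.Agent.DispLib.Rigid

/-! A constructor for 3n-displays. -/

set_option autoImplicit false

universe u v

noncomputable section

namespace Groth.Agent.DispLib

open WittVector W4c1extbt610

variable {p : ℕ} [Fact p.Prime] {R : Type u} [CommRing R]
  {P : Type v} [AddCommGroup P] [Module (WittVector p R) P]

/-- Extensionality of 3n-displays. -/
theorem display_ext {D D' : Display3n p R P} (hQ : D.Q = D'.Q) (hF : ∀ x, D.F x = D'.F x)
    (hV : ∀ (z : P) (h : z ∈ D.Q) (h' : z ∈ D'.Q), D.Vinv ⟨z, h⟩ = D'.Vinv ⟨z, h'⟩) : D = D' := by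
  obtain ⟨Q, F, Vi, _, _, _, _, _, _⟩ := D
  obtain ⟨Q', F', Vi', _, _, _, _, _, _⟩ := D'
  dsimp only at hQ hF hV
  subst hQ
  obtain rfl : F = F' := LinearMap.ext hF
  obtain rfl : Vi = Vi' := LinearMap.ext fun z => hV z z.2 z.2
  rfl

/-- Two displays with the same `Q` and `F` and the same `V⁻¹` on a complement-closed set agree. -/
theorem display_ext' {D D' : Display3n p R P} (hQ : D.Q = D'.Q) (hF : ∀ x, D.F x = D'.F x)
    {L : Submodule (WittVector p R) P} (hLQ : D.Q ≤ L ⊔ IV p R • ⊤) (hL : L ≤ D.Q)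
    (hV : ∀ (z : P) (hz : z ∈ L), D.Vinv ⟨z, hL hz⟩ = D'.Vinv ⟨z, hQ ▸ hL hz⟩) : D = D' := by
  refine display_ext hQ hF fun z h h' => ?_
  obtain ⟨l, hl, i, hi, rfl⟩ := Submodule.mem_sup.1 (hLQ h)
  have hiQ : i ∈ D.Q := D.IV_smul_le hi
  have key : ∀ i (hi : i ∈ IV p R • (⊤ : Submodule (WittVector p R) P)),
      D.Vinv ⟨i, D.IV_smul_le hi⟩ = D'.Vinv ⟨i, D'.IV_smul_le hi⟩ := by
    intro i hi
    refine Submodule.smul_induction_on' hi (fun r hr x _ => ?_) (fun a ha b hb iha ihb => ?_)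
    · obtain ⟨w, rfl⟩ := mem_IV_iff.1 hr
      rw [D.Vinv_verschiebung_smul, D'.Vinv_verschiebung_smul, hF]
    · rw [show (⟨a + b, _⟩ : D.Q) = ⟨a, D.IV_smul_le ha⟩ + ⟨b, D.IV_smul_le hb⟩ from rfl,
        show (⟨a + b, _⟩ : D'.Q) = ⟨a, D'.IV_smul_le ha⟩ + ⟨b, D'.IV_smul_le hb⟩ from rfl,
        map_add, map_add, iha, ihb]
  rw [show (⟨l + i, h⟩ : D.Q) = ⟨l, hL hl⟩ + ⟨i, hiQ⟩ from rfl,
    show (⟨l + i, h'⟩ : D'.Q) = ⟨l, hQ ▸ hL hl⟩ + ⟨i, hQ ▸ hiQ⟩ from rfl,
    map_add, map_add, hV l hl]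
  congr 1
  exact key i hi

section Mk

variable (hfin : Module.Finite (WittVector p R) P) (hproj : Module.Projective (WittVector p R) P)
  (π : P →ₗ[WittVector p R] P) (hπ : ∀ x, π (π x) = π x)
  (F Ψ : P →ₛₗ[(WittVector.frobenius : WittVector p R →+* WittVector p R)] P)
  (hFΨ : ∀ x, F (π x) = (p : WittVector p R) • Ψ (π x))
  (hspan : Submodule.span (WittVector p R) (Set.range (fun x => Ψ (π x)) ∪ Set.range F) = ⊤)

/-- `{z | z - π z ∈ I P}`. -/
def mkQ' : Submodule (WittVector p R) P :=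
  (IV p R • (⊤ : Submodule (WittVector p R) P)).comap (LinearMap.id - π)

theorem mem_mkQ' {z : P} : z ∈ mkQ' π ↔ z - π z ∈ IV p R • (⊤ : Submodule (WittVector p R) P) :=
  Iff.rfl

theorem tl_add_of_IV {a b : WittVector p R} (ha : a ∈ IV p R) (hb : b ∈ IV p R) :
    tl (a + b) = tl a + tl b := by
  obtain ⟨a, rfl⟩ := mem_IV_iff.1 ha
  obtain ⟨b, rfl⟩ := mem_IV_iff.1 hb
  rw [← map_add, tl_verschiebung, tl_verschiebung, tl_verschiebung]

theorem tl_mul_of_IV (w : WittVector p R) {a : WittVector p R} (ha : a ∈ IV p R) :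
    tl (w * a) = frobenius w * tl a := by
  obtain ⟨a, rfl⟩ := mem_IV_iff.1 ha
  rw [mul_comm w, verschiebung_mul, tl_verschiebung, tl_verschiebung, mul_comm]

variable {n : ℕ} (e : Fin n → P) (φ : Fin n → (P →ₗ[WittVector p R] WittVector p R))

/-- `V⁻¹` on `{z | z - π z ∈ I P}`. -/
def mkVinv : mkQ' π →ₛₗ[(WittVector.frobenius : WittVector p R →+* WittVector p R)] P where
  toFun z := Ψ (π z) + ∑ k, tl (φ k ((z : P) - π z)) • F (e k)
  map_add' a b := by
    simp only [Submodule.coe_add, map_add, add_sub_add_comm]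
    rw [add_add_add_comm, ← Finset.sum_add_distrib]
    congr 1
    refine Finset.sum_congr rfl fun k _ => ?_
    rw [← add_smul, tl_add_of_IV (apply_mem_of_mem_smul _ (φ k) ((mem_mkQ' π).1 a.2))
      (apply_mem_of_mem_smul _ (φ k) ((mem_mkQ' π).1 b.2))]
  map_smul' w a := by
    simp only [Submodule.coe_smul, map_smul, ← smul_sub, LinearMap.map_smulₛₗ]
    rw [smul_add, Finset.smul_sum]
    congr 1
    refine Finset.sum_congr rfl fun k _ => ?_
    rw [smul_smul, smul_eq_mul, tl_mul_of_IV w (apply_mem_of_mem_smul _ (φ k) ((mem_mkQ' π).1 a.2))]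

variable (hφ : ∀ z, ∑ k, φ k z • e k = z)

include hπ in
theorem mkVinv_π (x : P) (h : π x ∈ mkQ' π) : mkVinv π F Ψ e φ ⟨π x, h⟩ = Ψ (π x) := by
  show Ψ (π (π x)) + ∑ k, tl (φ k (π x - π (π x))) • F (e k) = _
  simp only [hπ, sub_self, map_zero]
  have : tl (0 : WittVector p R) = 0 := by
    conv_lhs => rw [← map_zero (verschiebung : WittVector p R →+ WittVector p R), tl_verschiebung]
  simp only [this, zero_smul, Finset.sum_const_zero, add_zero]

include hFΨ hφ in
theorem mkVinv_verschiebung (w : WittVector p R) (x : P) (h : verschiebung w • x ∈ mkQ' π) :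
    mkVinv π F Ψ e φ ⟨verschiebung w • x, h⟩ = w • F x := by
  have key : ∀ y, ∑ k, frobenius (φ k y) • F (e k) = F y := fun y => by
    conv_rhs => rw [← hφ y, map_sum]
    simp only [LinearMap.map_smulₛₗ]
  show Ψ (π (verschiebung w • x)) + ∑ k, tl (φ k (verschiebung w • x - π (verschiebung w • x))) • F (e k) = _
  simp only [map_smul, ← smul_sub, LinearMap.map_smulₛₗ, smul_eq_mul, verschiebung_mul, tl_verschiebung,
    frobenius_verschiebung, mul_smul, ← Finset.smul_sum, ← hFΨ]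
  simp only [map_sub, sub_smul, Finset.sum_sub_distrib, key]
  rw [smul_sub, add_sub_cancel]

include hfin hproj hπ hFΨ hspan hφ in
/-- The 3n-display given by an idempotent `π` (projection onto `L`), `F` and `V⁻¹|L = Ψ`. -/
def mkDisplay : Display3n p R P where
  Q := mkQ' π
  F := F
  Vinv := mkVinv π F Ψ e φ
  finite := hfin
  projective := hproj
  IV_smul_le z hz := by
    rw [mem_mkQ']
    refine sub_mem hz ?_
    suffices h : (IV p R • (⊤ : Submodule (WittVector p R) P)).map π ≤ IV p R • ⊤ from h ⟨z, hz, rfl⟩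
    rw [Submodule.map_smul'']
    exact Submodule.smul_mono le_rfl le_top
  exists_normal := by
    refine ⟨LinearMap.range π, LinearMap.ker π, ⟨?_, ?_⟩, le_antisymm (fun z hz => ?_) ?_⟩
    · rw [Submodule.disjoint_def]
      rintro _ ⟨x, rfl⟩ hx
      rw [LinearMap.mem_ker, hπ] at hx
      exact hx
    · rw [codisjoint_iff, eq_top_iff]
      intro x _
      exact Submodule.mem_sup.2 ⟨π x, ⟨x, rfl⟩, x - π x,
        by rw [LinearMap.mem_ker, map_sub, hπ, sub_self], add_sub_cancel _ _⟩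
    · refine Submodule.mem_sup.2 ⟨π z, ⟨z, rfl⟩, z - π z, ?_, add_sub_cancel _ _⟩
      have h1 := Submodule.mem_map_of_mem (f := LinearMap.id - π) (mem_mkQ' π |>.1 hz)
      rw [Submodule.map_smul''] at h1
      simp only [LinearMap.sub_apply, LinearMap.id_apply, map_sub, hπ, sub_self, sub_zero] at h1
      refine Submodule.smul_mono le_rfl ?_ h1
      rintro _ ⟨y, -, rfl⟩
      simp [hπ]
    · refine sup_le ?_ ?_
      · rintro _ ⟨x, rfl⟩
        rw [mem_mkQ', hπ, sub_self]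
        exact zero_mem _
      · refine Submodule.smul_le.2 fun r hr t ht => ?_
        rw [mem_mkQ', map_smul, LinearMap.mem_ker.1 ht, smul_zero, sub_zero]
        exact Submodule.smul_mem_smul hr Submodule.mem_top
  span_range_Vinv := by
    rw [eq_top_iff, ← hspan]
    refine Submodule.span_le.2 (Set.union_subset ?_ ?_)
    · rintro _ ⟨x, rfl⟩
      have h : π x ∈ mkQ' π := by rw [mem_mkQ', hπ, sub_self]; exact zero_mem _
      exact Submodule.subset_span ⟨⟨π x, h⟩, mkVinv_π π hπ F Ψ e φ x h⟩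
    · rintro _ ⟨x, rfl⟩
      have h : verschiebung (1 : WittVector p R) • x ∈ mkQ' π := by
        rw [mem_mkQ', map_smul, ← smul_sub]
        exact Submodule.smul_mem_smul (verschiebung_mem_IV p R 1) Submodule.mem_top
      exact Submodule.subset_span ⟨⟨_, h⟩, by rw [mkVinv_verschiebung π F Ψ hFΨ e φ hφ, one_smul]⟩
  Vinv_verschiebung_smul w x := mkVinv_verschiebung π F Ψ hFΨ e φ hφ w x _

end Mk

end Groth.Agent.DispLib
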