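import Groth.Agent.DispLib.DieuSplit
import Groth.Agent.DispLib.Mk
import Groth.Agent.DispLib.LiftIdem

/-! The 3n-display of a Dieudonné module. -/

set_option autoImplicit false

universe u v

noncomputable section

namespace Groth.Agent.DispLib

open WittVector W4c1extbt610

variable {p : ℕ} [Fact p.Prime] {k : Type u} [CommRing k] [CharP k p] [PerfectRing k p]
  {M : Type v} [AddCommGroup M] [Module (WittVector p k) M] [Module.Finite (WittVector p k) M]
  [Module.Projective (WittVector p k) M]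
  {F : M →ₛₗ[(WittVector.frobenius : WittVector p k →+* WittVector p k)] M}
  {V : M →ₛₗ[((WittVector.frobeniusEquiv p k).symm : WittVector p k →+* WittVector p k)] M}
  (hFV : ∀ m : M, F (V m) = (p : WittVector p k) • m)
  (hVF : ∀ m : M, V (F m) = (p : WittVector p k) • m)

theorem verschiebung_one_eq : verschiebung (1 : WittVector p k) = (p : WittVector p k) := by
  have := verschiebung_frobenius (1 : WittVector p k)
  rwa [map_one, one_mul] at this

include hFV hVF in
theorem exists_idem : ∃ e : Module.End (WittVector p k) M, e * e = e ∧ (∀ x, e x ∈ rangeV V) ∧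
    ∀ u ∈ rangeV V, u - e u ∈ IV p k • (⊤ : Submodule (WittVector p k) M) := by
  obtain ⟨π, hπ1, hπ2⟩ := exists_split hFV hVF
  haveI : IsAdicComplete (IV p k) (WittVector p k) := by
    rw [IV_eq_span_p]; infer_instance
  have hπ2' : ∀ u ∈ rangeV V, π u - u ∈ IV p k • (⊤ : Submodule (WittVector p k) M) := fun u hu => by
    rw [IV_eq_span_p]; exact hπ2 u hu
  obtain ⟨e, he, heπ⟩ := exists_idempotent_end (IV p k) π (fun x => hπ2' _ (hπ1 x))
  refine ⟨e, he, fun x => ?_, fun u hu => ?_⟩
  · have h := heπ x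
    rw [IV_eq_span_p] at h
    have := (rangeV V).add_mem (K_le_rangeV hVF h) (hπ1 x)
    rwa [sub_add_cancel] at this
  · have := sub_mem (neg_mem (hπ2' u hu)) (heπ u)
    convert this using 1
    abel

include hFV hVF in
theorem exists_dieu_display : ∃ D : Display3n p k M,
    D.F = F ∧ (∀ x : M, x ∈ D.Q ↔ x ∈ Set.range V) ∧
      ∀ (m : M) (h : V m ∈ D.Q), D.Vinv ⟨V m, h⟩ = m := by
  obtain ⟨e, he, heV, heQ⟩ := exists_idem hFV hVF
  have he' : ∀ x, e (e x) = e x := fun x => LinearMap.congr_fun he x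
  choose ψ hψ using fun x => heV x
  let Ψ : M →ₛₗ[(WittVector.frobenius : WittVector p k →+* WittVector p k)] M :=
    { toFun := ψ
      map_add' := fun a b => V_injective hFV (by rw [map_add V, hψ, hψ, hψ, map_add])
      map_smul' := fun c a => V_injective hFV (by
        rw [LinearMap.map_smulₛₗ, hψ, hψ, symm_frobenius, map_smul]) }
  have hΨ : ∀ x, V (Ψ x) = e x := hψ
  have hF : ∀ x, F (e x) = (p : WittVector p k) • Ψ (e x) := fun x => by
    rw [← hFV, hΨ, he']
  have hK : ∀ z, z ∈ mkQ' e → ∃ z', z - e z = (p : WittVector p k) • z' := fun z hz => by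
    have := (mem_mkQ' e).1 hz
    rw [IV_eq_span_p] at this
    obtain ⟨z', hz'⟩ := mem_span_smul_top.1 this
    exact ⟨z', hz'.symm⟩
  have hspan : Submodule.span (WittVector p k) (Set.range (fun x => Ψ (e x)) ∪ Set.range F) = ⊤ := by
    rw [eq_top_iff]
    intro y _
    obtain ⟨z', hz'⟩ := hK (V y) ((mem_mkQ' e).2 (heQ _ ⟨y, rfl⟩))
    have : y = Ψ (e (V y)) + F z' := V_injective hFV (by
      rw [map_add, hΨ, hVF, ← hz', he', add_sub_cancel])
    rw [this]
    exact add_mem (Submodule.subset_span (Or.inl ⟨_, rfl⟩)) (Submodule.subset_span (Or.inr ⟨_, rfl⟩))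
  obtain ⟨n, eb, φ, hφ⟩ := exists_coord (A := WittVector p k) (M := M)
  let D := mkDisplay inferInstance inferInstance e he' F Ψ hF hspan eb φ hφ
  have hQ : ∀ x : M, x ∈ D.Q ↔ x ∈ Set.range V := by
    intro x
    refine ⟨fun hx => ?_, fun hx => (mem_mkQ' e).2 (heQ x hx)⟩
    have h := (mem_mkQ' e).1 hx
    rw [IV_eq_span_p] at h
    have := (rangeV V).add_mem (heV x) (K_le_rangeV hVF h)
    rwa [add_sub_cancel] at this
  refine ⟨D, rfl, hQ, fun m h => V_injective hFV ?_⟩
  obtain ⟨z', hz'⟩ := hK (V m) h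
  have h1 : e (V m) ∈ D.Q := (hQ _).2 (heV _)
  have hsplit : (⟨V m, h⟩ : D.Q) = ⟨e (V m), h1⟩ + ⟨_, verschiebung_smul_mem D 1 z'⟩ :=
    Subtype.ext (by
      show V m = e (V m) + verschiebung (1 : WittVector p k) • z'
      rw [verschiebung_one_eq, ← hz', add_sub_cancel])
  rw [hsplit, map_add, D.Vinv_verschiebung_smul, one_smul, map_add,
    show D.Vinv ⟨e (V m), h1⟩ = Ψ (e (V m)) from mkVinv_π e he' F Ψ eb φ _ h1, hΨ, he']
  show e (V m) + V (F z') = V m
  rw [hVF, ← hz', add_sub_cancel]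

end Groth.Agent.DispLib
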