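import Groth.Agent.DispLib.Rigid
import Mathlib.RingTheory.WittVector.Complete
import Mathlib.LinearAlgebra.Matrix.NonsingularInverse
import Mathlib.LinearAlgebra.Dual.Lemmas

/-! The image of `V` on a Dieudonné module splits modulo `p`. -/

set_option autoImplicit false

universe u v

noncomputable section

namespace Groth.Agent.DispLib

open WittVector W4c1extbt610

variable {p : ℕ} [Fact p.Prime] {k : Type u} [CommRing k] [CharP k p] [PerfectRing k p]
  {M : Type v} [AddCommGroup M] [Module (WittVector p k) M] [Module.Finite (WittVector p k) M]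
  [Module.Projective (WittVector p k) M]
  {F : M →ₛₗ[(WittVector.frobenius : WittVector p k →+* WittVector p k)] M}
  {V : M →ₛₗ[((WittVector.frobeniusEquiv p k).symm : WittVector p k →+* WittVector p k)] M}

theorem isReduced_perfect {p : ℕ} [Fact p.Prime] {k : Type u} [CommRing k] [CharP k p]
    [PerfectRing k p] : IsReduced k := by
  refine ⟨fun x ⟨n, hn⟩ => ?_⟩
  refine (iterateFrobeniusEquiv k p n).injective ?_
  rw [map_zero, iterateFrobeniusEquiv_def]
  exact pow_eq_zero_of_le (Nat.lt_pow_self (Fact.out : p.Prime).one_lt).le hn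

theorem exists_eq_teichmuller_add (w : WittVector p k) :
    ∃ c, w = teichmuller p (w.coeff 0) + c * (p : WittVector p k) := by
  refine ⟨(WittVector.frobeniusEquiv p k).symm (tl w), ?_⟩
  rw [← verschiebung_frobenius, ← WittVector.frobeniusEquiv_apply, RingEquiv.apply_symm_apply,
    verschiebung_tl, add_sub_cancel]

theorem IV_eq_span_p : IV p k = Ideal.span {(p : WittVector p k)} := by
  refine le_antisymm (fun x hx => ?_) ?_
  · obtain ⟨c, hc⟩ := exists_eq_teichmuller_add x
    rw [IV_eq_ker, RingHom.mem_ker] at hx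
    rw [hc, show x.coeff 0 = 0 from hx, teichmuller_zero, zero_add]
    exact Ideal.mul_mem_left _ _ (Ideal.mem_span_singleton_self _)
  · rw [Ideal.span_le, Set.singleton_subset_iff, SetLike.mem_coe, IV_eq_ker, RingHom.mem_ker,
      map_natCast, CharP.cast_eq_zero]

theorem symm_frobenius (w : WittVector p k) :
    ((WittVector.frobeniusEquiv p k).symm : WittVector p k →+* WittVector p k) (frobenius w) = w :=
  (WittVector.frobeniusEquiv p k).symm_apply_apply w

theorem frobenius_symm (w : WittVector p k) :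
    frobenius (((WittVector.frobeniusEquiv p k).symm : WittVector p k →+* WittVector p k) w) = w :=
  (WittVector.frobeniusEquiv p k).apply_symm_apply w

theorem symm_mem_WI {b : Ideal k} [hb : b.IsPrime] {w : WittVector p k} (hw : w ∈ WI p b) :
    ((WittVector.frobeniusEquiv p k).symm : WittVector p k →+* WittVector p k) w ∈ WI p b := by
  rw [mem_WI] at hw ⊢
  intro n
  refine hb.mem_of_pow_mem p ?_
  have := hw n
  rwa [← frobenius_symm w, coeff_frobenius_charP] at this

theorem apply_symm_mem {b : Ideal k} [b.IsPrime] {z : M}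
    (hz : z ∈ WI p b • (⊤ : Submodule (WittVector p k) M)) :
    V z ∈ WI p b • (⊤ : Submodule (WittVector p k) M) := by
  refine Submodule.smul_induction_on hz (fun r hr x _ => ?_) (fun a c ha hc => ?_)
  · rw [LinearMap.map_smulₛₗ]; exact Submodule.smul_mem_smul (symm_mem_WI hr) Submodule.mem_top
  · rw [map_add]; exact add_mem ha hc

theorem apply_frobenius_mem {b : Ideal k} [b.IsPrime] {z : M}
    (hz : z ∈ WI p b • (⊤ : Submodule (WittVector p k) M)) :
    F z ∈ WI p b • (⊤ : Submodule (WittVector p k) M) := by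
  refine Submodule.smul_induction_on hz (fun r hr x _ => ?_) (fun a c ha hc => ?_)
  · rw [LinearMap.map_smulₛₗ]
    refine Submodule.smul_mem_smul (mem_WI.2 fun n => ?_) Submodule.mem_top
    rw [coeff_frobenius_charP]
    exact Ideal.pow_mem_of_mem _ (mem_WI.1 hr n) p (Fact.out : p.Prime).pos
  · rw [map_add]; exact add_mem ha hc

theorem mem_of_p_smul_mem {b : Ideal k} [b.IsPrime] {z : M}
    (hz : (p : WittVector p k) • z ∈ WI p b • (⊤ : Submodule (WittVector p k) M)) :
    z ∈ WI p b • (⊤ : Submodule (WittVector p k) M) := by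
  obtain ⟨n, e, φ, hφ⟩ := exists_coord (A := WittVector p k) (M := M)
  rw [mem_smul_top_iff hφ] at hz ⊢
  intro i
  have h := hz i
  rw [map_smul, smul_eq_mul, WI, RingHom.mem_ker, map_mul, map_natCast] at h
  rw [WI, RingHom.mem_ker]
  refine natCast_mul_mem_WI_self ?_ h
  rw [← map_natCast (Ideal.Quotient.mk b), CharP.cast_eq_zero, map_zero]

theorem exists_of_p_smul_eq_zero {z : M} (hz : (p : WittVector p k) • z = 0) : z = 0 := by
  obtain ⟨n, e, φ, hφ⟩ := exists_coord (A := WittVector p k) (M := M)
  rw [← hφ z]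
  refine Finset.sum_eq_zero fun i _ => ?_
  have h := congrArg (φ i) hz
  rw [map_smul, map_zero, smul_eq_mul] at h
  haveI : IsReduced k := isReduced_perfect (p := p)
  rw [natCast_mul_mem_WI_self (CharP.cast_eq_zero k p) h, zero_smul]

variable (hFV : ∀ m : M, F (V m) = (p : WittVector p k) • m)
  (hVF : ∀ m : M, V (F m) = (p : WittVector p k) • m)

include hVF in
theorem F_injective {a b : M} (h : F a = F b) : a = b := by
  refine sub_eq_zero.1 (exists_of_p_smul_eq_zero (p := p) (k := k) ?_)
  rw [← hVF, map_sub, h, sub_self, map_zero]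

include hFV in
theorem V_injective {a b : M} (h : V a = V b) : a = b := by
  refine sub_eq_zero.1 (exists_of_p_smul_eq_zero (p := p) (k := k) ?_)
  rw [← hFV, map_sub, h, sub_self, map_zero]

/-- `VM`. -/
def rangeV (V : M →ₛₗ[((WittVector.frobeniusEquiv p k).symm : WittVector p k →+* WittVector p k)] M) :
    Submodule (WittVector p k) M where
  carrier := Set.range V
  zero_mem' := ⟨0, map_zero V⟩
  add_mem' := by rintro _ _ ⟨a, rfl⟩ ⟨b, rfl⟩; exact ⟨a + b, map_add V a b⟩
  smul_mem' := by
    rintro c _ ⟨a, rfl⟩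
    exact ⟨frobenius c • a, by rw [LinearMap.map_smulₛₗ, symm_frobenius]⟩

/-- `FM`. -/
def rangeF (F : M →ₛₗ[(WittVector.frobenius : WittVector p k →+* WittVector p k)] M) :
    Submodule (WittVector p k) M where
  carrier := Set.range F
  zero_mem' := ⟨0, map_zero F⟩
  add_mem' := by rintro _ _ ⟨a, rfl⟩ ⟨b, rfl⟩; exact ⟨a + b, map_add F a b⟩
  smul_mem' := by
    rintro c _ ⟨a, rfl⟩
    exact ⟨((WittVector.frobeniusEquiv p k).symm : WittVector p k →+* WittVector p k) c • a,
      by rw [LinearMap.map_smulₛₗ, frobenius_symm]⟩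

omit [CharP k p] [PerfectRing k p] [Module.Finite (WittVector p k) M] [Module.Projective (WittVector p k) M] in
theorem mem_span_smul_top {z : M} :
    z ∈ Ideal.span {(p : WittVector p k)} • (⊤ : Submodule (WittVector p k) M) ↔
      ∃ n, (p : WittVector p k) • n = z := by
  rw [Submodule.ideal_span_singleton_smul]
  exact ⟨fun h => by obtain ⟨n, -, e⟩ := h; exact ⟨n, e⟩, fun ⟨n, e⟩ => ⟨n, trivial, e⟩⟩

include hVF in
theorem K_le_rangeV :
    Ideal.span {(p : WittVector p k)} • (⊤ : Submodule (WittVector p k) M) ≤ rangeV V := by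
  intro z hz
  obtain ⟨n, rfl⟩ := mem_span_smul_top.1 hz
  exact ⟨F n, hVF n⟩

theorem exists_prime_WI (N : Ideal (WittVector p k)) [N.IsMaximal] :
    ∃ b : Ideal k, b.IsPrime ∧ WI p b ≤ N ∧ N ≤ WI p b ⊔ Ideal.span {(p : WittVector p k)} ∧
      Ideal.span {(p : WittVector p k)} ≤ N := by
  have hpN : Ideal.span {(p : WittVector p k)} ≤ N :=
    (IV_eq_span_p (p := p) (k := k)).ge.trans
      (IV_le_maximal ⟨1, by rw [pow_one, CharP.cast_eq_zero]⟩ N)
  have hker : RingHom.ker (constantCoeff : WittVector p k →+* k) ≤ N := by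
    rw [← IV_eq_ker, IV_eq_span_p]; exact hpN
  have hsurj : Function.Surjective (constantCoeff : WittVector p k →+* k) := fun s =>
    ⟨teichmuller p s, teichmuller_coeff_zero p s⟩
  have hcm := Ideal.comap_map_of_surjective' _ hsurj N
  refine ⟨N.map (constantCoeff : WittVector p k →+* k), Ideal.map_isPrime_of_surjective hsurj hker,
    fun w hw => ?_, fun w hw => ?_, hpN⟩
  · rw [← sup_eq_left.2 hker, ← hcm, Ideal.mem_comap]
    exact mem_WI.1 hw 0
  · obtain ⟨c, hc⟩ := exists_eq_teichmuller_add w
    rw [hc]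
    exact Submodule.add_mem_sup (teichmuller_mem_WI (Ideal.mem_map_of_mem _ hw))
      (Ideal.mul_mem_left _ _ (Ideal.mem_span_singleton_self _))

variable (p k) in
theorem symm_not_mem (N : Ideal (WittVector p k)) [hN : N.IsMaximal] {f : WittVector p k} (hf : f ∉ N) :
    ((WittVector.frobeniusEquiv p k).symm : WittVector p k →+* WittVector p k) f ∉ N := by
  intro h
  haveI := hN
  have h1 := (frobenius_mem_iff (p := p) (R := k) ⟨1, by rw [pow_one, CharP.cast_eq_zero]⟩ N
    (((WittVector.frobeniusEquiv p k).symm : WittVector p k →+* WittVector p k) f)).2 h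
  rw [frobenius_symm] at h1
  exact hf h1

include hFV hVF in
theorem local_split (N : Ideal (WittVector p k)) [N.IsMaximal] :
    ∃ (s : M →ₗ[WittVector p k] M) (h : WittVector p k), h ∉ N ∧ (∀ x, s x ∈ rangeV V) ∧
      ∀ u ∈ rangeV V, s u - h • u ∈ Ideal.span {(p : WittVector p k)} • (⊤ : Submodule (WittVector p k) M) := by
  classical
  obtain ⟨b, hb, hbN, hNb, hpN⟩ := exists_prime_WI N
  haveI := hb
  letI := Ideal.Quotient.field N
  set E := N • (⊤ : Submodule (WittVector p k) M)
  haveI : Module.Finite (WittVector p k ⧸ N) (M ⧸ E) :=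
    Module.Finite.of_restrictScalars_finite (WittVector p k) _ _
  -- exactness modulo `N`
  have hex : ∀ y, V y ∈ E → y ∈ rangeF F ⊔ E := by
    intro y hy
    have hy' : V y ∈ (WI p b • (⊤ : Submodule (WittVector p k) M)) ⊔
        Ideal.span {(p : WittVector p k)} • ⊤ := by
      rw [← Submodule.sup_smul]
      exact Submodule.smul_mono hNb le_rfl hy
    obtain ⟨a, ha, c, hc, hac⟩ := Submodule.mem_sup.1 hy'
    obtain ⟨n, rfl⟩ := mem_span_smul_top.1 hc
    have h1 : V (y - F n) ∈ WI p b • (⊤ : Submodule (WittVector p k) M) := by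
      rw [map_sub, hVF, ← hac, add_sub_cancel_right]
      exact ha
    have h2 := apply_frobenius_mem (F := F) h1
    rw [hFV] at h2
    have h3 := mem_of_p_smul_mem h2
    exact Submodule.mem_sup.2 ⟨F n, ⟨n, rfl⟩, y - F n, Submodule.smul_mono hbN le_rfl h3,
      add_sub_cancel _ _⟩
  obtain ⟨B, hBsub, hBspan, hBind⟩ := exists_linearIndependent (WittVector p k ⧸ N)
    (Set.range fun x : M => (Submodule.Quotient.mk (V x) : M ⧸ E))
  haveI : Finite B := hBind.finite
  haveI : Fintype B := Fintype.ofFinite B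
  choose x hx0 using fun i : B => hBsub i.2
  have hx : ∀ i : B, (Submodule.Quotient.mk (V (x i)) : M ⧸ E) = ↑i := hx0
  -- generators
  have hgen : ∀ y : M, y ∈ Submodule.span (WittVector p k) (Set.range x) ⊔ rangeF F ⊔ E := by
    intro y
    have hy : (Submodule.Quotient.mk (V y) : M ⧸ E) ∈ Submodule.span (WittVector p k ⧸ N) (Set.range ((↑) : B → M ⧸ E)) := by
      rw [Subtype.range_coe_subtype, Set.setOf_mem_eq, hBspan]
      exact Submodule.subset_span ⟨y, rfl⟩
    obtain ⟨c, hc⟩ := (Submodule.mem_span_range_iff_exists_fun _).1 hy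
    choose d hd using fun i => Ideal.Quotient.mk_surjective (I := N) (c i)
    have hV : V (y - ∑ i, frobenius (d i) • x i) ∈ E := by
      rw [map_sub, map_sum, ← Submodule.Quotient.eq, ← Submodule.mkQ_apply E (∑ i, _), map_sum, ← hc]
      refine Finset.sum_congr rfl fun i _ => ?_
      rw [LinearMap.map_smulₛₗ, symm_frobenius, map_smul, ← hd i, Submodule.mkQ_apply, hx i]
      rfl
    rw [sup_assoc]
    exact Submodule.mem_sup.2 ⟨∑ i, frobenius (d i) • x i,
      Submodule.sum_mem _ fun i _ => Submodule.smul_mem _ _ (Submodule.subset_span ⟨i, rfl⟩), _,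
      hex _ hV, add_sub_cancel _ _⟩
  set X := Submodule.span (WittVector p k) (Set.range x) ⊔ rangeF F
  obtain ⟨f, hf1, hf⟩ := Submodule.exists_sub_one_mem_and_smul_eq_zero_of_fg_of_le_smul N
    (⊤ : Submodule (WittVector p k) (M ⧸ X)) Module.Finite.fg_top (by
      intro z _
      obtain ⟨y, rfl⟩ := Submodule.Quotient.mk_surjective _ z
      obtain ⟨a, ha, e, he, rfl⟩ := Submodule.mem_sup.1 (hgen y)
      rw [Submodule.Quotient.mk_add, (Submodule.Quotient.mk_eq_zero _).2 ha, zero_add]
      have := Submodule.mem_map_of_mem (f := X.mkQ) he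
      rw [Submodule.map_smul'', Submodule.map_top, Submodule.range_mkQ] at this
      exact this)
  have hfN : f ∉ N := fun h => ‹N.IsMaximal›.ne_top ((Ideal.eq_top_iff_one N).2 (by
    have := N.sub_mem h hf1; rwa [sub_sub_cancel] at this))
  set f' := ((WittVector.frobeniusEquiv p k).symm : WittVector p k →+* WittVector p k) f
  have hdec : ∀ u ∈ rangeV V, ∃ c : B → WittVector p k, ∃ z : M,
      f' • u = ∑ i, c i • V (x i) + (p : WittVector p k) • z := by
    rintro _ ⟨y, rfl⟩
    have hfy : f • y ∈ X := by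
      rw [← Submodule.Quotient.mk_eq_zero, Submodule.Quotient.mk_smul]
      exact hf _ Submodule.mem_top
    obtain ⟨a, ha, q, ⟨z, rfl⟩, haq⟩ := Submodule.mem_sup.1 hfy
    obtain ⟨c, rfl⟩ := (Submodule.mem_span_range_iff_exists_fun _).1 ha
    refine ⟨fun i => ((WittVector.frobeniusEquiv p k).symm : WittVector p k →+* WittVector p k) (c i), z, ?_⟩
    rw [← LinearMap.map_smulₛₗ, ← haq, map_add, map_sum, hVF]
    simp only [LinearMap.map_smulₛₗ]
  -- functionals
  have hφ : ∀ j : B, ∃ φ : M →ₗ[WittVector p k] WittVector p k, ∀ i : B,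
      φ (V (x i)) - (if i = j then 1 else 0) ∈ N := by
    intro j
    obtain ⟨l, hl⟩ := LinearMap.exists_extend ((Finsupp.lapply j).comp hBind.repr)
    let lam : M →ₗ[WittVector p k] WittVector p k ⧸ N :=
      (l.restrictScalars (WittVector p k)).comp E.mkQ
    obtain ⟨φ, hφ⟩ := Module.projective_lifting_property N.mkQ lam N.mkQ_surjective
    refine ⟨φ, fun i => ?_⟩
    have h1 : Ideal.Quotient.mk N (φ (V (x i))) = l (Submodule.Quotient.mk (V (x i))) :=
      LinearMap.congr_fun hφ _
    rw [hx i] at h1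
    have h2 := LinearMap.congr_fun hl ⟨(i : M ⧸ E), Submodule.subset_span (Set.mem_range_self i)⟩
    rw [LinearMap.comp_apply, LinearMap.comp_apply, Submodule.subtype_apply,
      hBind.repr_eq_single i _ rfl, Finsupp.lapply_apply, Finsupp.single_apply] at h2
    rw [← Ideal.Quotient.eq, h1, h2, apply_ite (Ideal.Quotient.mk N), map_one, map_zero]
  choose φ hφ using hφ
  let G : Matrix B B (WittVector p k) := Matrix.of fun j i => φ j (V (x i))
  have hdet : f' * G.det ∉ N := by
    refine fun h => (‹N.IsMaximal›.isPrime.mem_or_mem h).elim (symm_not_mem p k N hfN) fun hG => ?_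
    have hmap : G.map (Ideal.Quotient.mk N) = 1 := by
      ext j i
      rw [Matrix.map_apply, Matrix.one_apply]
      show Ideal.Quotient.mk N (φ j (V (x i))) = _
      rw [← map_one (Ideal.Quotient.mk N),
        ← map_zero (Ideal.Quotient.mk N), ← apply_ite (Ideal.Quotient.mk N), Ideal.Quotient.eq]
      have := hφ j i
      rcases eq_or_ne i j with rfl | hij
      · simpa using this
      · simpa [hij, hij.symm] using this
    have h1 : Ideal.Quotient.mk N G.det = 1 := by
      rw [RingHom.map_det, RingHom.mapMatrix_apply, hmap, Matrix.det_one]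
    rw [Ideal.Quotient.eq_zero_iff_mem.2 hG] at h1
    exact zero_ne_one h1
  let vec : M →ₗ[WittVector p k] (B → WittVector p k) := LinearMap.pi φ
  let s : M →ₗ[WittVector p k] M := f' • ((Fintype.linearCombination (WittVector p k) fun i => V (x i)).comp
    ((Matrix.mulVecLin G.adjugate).comp vec))
  refine ⟨s, f' * G.det, hdet, fun y => ?_, fun u hu => ?_⟩
  · show f' • Fintype.linearCombination _ _ _ ∈ rangeV V
    rw [Fintype.linearCombination_apply]
    exact (rangeV V).smul_mem _ (Submodule.sum_mem _ fun i _ => (rangeV V).smul_mem _ ⟨_, rfl⟩)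
  · obtain ⟨c, z, hcz⟩ := hdec u hu
    let s' : M →ₗ[WittVector p k] M := (Fintype.linearCombination (WittVector p k) fun i => V (x i)).comp
      ((Matrix.mulVecLin G.adjugate).comp vec)
    have hvec : vec (∑ i, c i • V (x i)) = G.mulVec c := by
      funext j
      simp only [vec, LinearMap.pi_apply, map_sum, map_smul, smul_eq_mul, Matrix.mulVec, dotProduct,
        G, Matrix.of_apply, mul_comm]
    have hs' : s' (∑ i, c i • V (x i)) = G.det • ∑ i, c i • V (x i) := by
      show Fintype.linearCombination _ _ (G.adjugate.mulVec (vec _)) = _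
      rw [hvec, Matrix.mulVec_mulVec, Matrix.adjugate_mul, Matrix.smul_mulVec, Matrix.one_mulVec,
        map_smul, Fintype.linearCombination_apply]
    have : s u = G.det • (f' • u) + (p : WittVector p k) • (s' z - G.det • z) := by
      show f' • s' u = _
      rw [← map_smul, hcz, map_add, map_smul, hs', smul_add, smul_sub, smul_comm G.det (p : WittVector p k) z]
      abel
    rw [this, smul_smul, mul_comm, add_sub_cancel_left]
    exact mem_span_smul_top.2 ⟨_, rfl⟩

include hFV hVF in
theorem exists_split :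
    ∃ π : M →ₗ[WittVector p k] M, (∀ x, π x ∈ rangeV V) ∧
      ∀ u ∈ rangeV V, π u - u ∈ Ideal.span {(p : WittVector p k)} • (⊤ : Submodule (WittVector p k) M) := by
  let I : Ideal (WittVector p k) :=
    { carrier := {h | ∃ s : M →ₗ[WittVector p k] M, (∀ x, s x ∈ rangeV V) ∧ ∀ u ∈ rangeV V,
        s u - h • u ∈ Ideal.span {(p : WittVector p k)} • (⊤ : Submodule (WittVector p k) M)}
      zero_mem' := ⟨0, fun x => zero_mem _, fun u _ => by simp⟩
      add_mem' := by
        rintro a c ⟨s, hs, hs'⟩ ⟨t, ht, ht'⟩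
        refine ⟨s + t, fun x => add_mem (hs x) (ht x), fun u hu => ?_⟩
        rw [LinearMap.add_apply, add_smul, add_sub_add_comm]
        exact add_mem (hs' u hu) (ht' u hu)
      smul_mem' := by
        rintro a c ⟨s, hs, hs'⟩
        refine ⟨a • s, fun x => (rangeV V).smul_mem a (hs x), fun u hu => ?_⟩
        rw [LinearMap.smul_apply, smul_eq_mul, mul_smul, ← smul_sub]
        exact Submodule.smul_mem _ a (hs' u hu) }
  have hI : I = ⊤ := by
    by_contra hne
    obtain ⟨N, hN, hIN⟩ := Ideal.exists_le_maximal I hne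
    obtain ⟨s, h, hh, hs, hs'⟩ := local_split hFV hVF N
    exact hh (hIN ⟨s, hs, hs'⟩)
  obtain ⟨π, h1, h2⟩ : (1 : WittVector p k) ∈ I := hI ▸ trivial
  exact ⟨π, h1, fun u hu => by simpa using h2 u hu⟩

end Groth.Agent.DispLib
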