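import Groth.Agent.DispLib.Basic

/-! Iterates of `V#` and the nilpotence condition. -/

set_option autoImplicit false

universe u v

noncomputable section

namespace Groth.Agent.DispLib

open WittVector W4c1extbt610

variable {p : ℕ} [Fact p.Prime] {R : Type u} [CommRing R]
  {P : Type v} [AddCommGroup P] [Module (WittVector p R) P]
  (Vs : P →ₗ[WittVector p R] Dieu.BC (WittVector.frobenius : WittVector p R →+* WittVector p R) P)

local notation "σ" => (WittVector.frobenius : WittVector p R →+* WittVector p R)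

theorem pow_comp_pow (a b : ℕ) : (σ ^ (a + 1)).comp (σ ^ (b + 1)) = σ ^ (b + a + 1 + 1) := by
  rw [show b + a + 1 + 1 = (a + 1) + (b + 1) by omega, pow_add σ (a + 1) (b + 1)]
  rfl

/-- The semilinear map whose linearisation is `V^{(b+1)#}` twisted by `σ^(a+1)`. -/
def powAux (a b : ℕ) : P →ₛₗ[σ ^ (a + 1)] Dieu.BC (σ ^ (b + a + 1 + 1)) P where
  toFun y := Dieu.BC.castHom (pow_comp_pow a b)
    (Dieu.BC.push (σ ^ (b + 1)) (σ ^ (a + 1)) (Dieu.vSharpPow Vs b y))
  map_add' x y := by rw [map_add, map_add, map_add]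
  map_smul' w x := by rw [map_smul, LinearMap.map_smulₛₗ, map_smul]

theorem vSharpPow_add : ∀ (a b : ℕ) (x : P),
    Dieu.vSharpPow Vs (b + a + 1) x = Dieu.BC.lift (σ ^ (a + 1)) (powAux Vs a b) (Dieu.vSharpPow Vs a x)
  | 0, b, x => by
    rw [Dieu.vSharpPow_succ_apply, Dieu.vSharpPow_zero_apply]
    generalize Vs x = z
    induction z using Dieu.BC.induction_on with
    | zero => simp only [map_zero]
    | add z z' h h' => simp only [map_add, h, h']
    | tmul w y =>
      rw [Dieu.BC.map_tmul, Dieu.BC.lift_tmul, Dieu.BC.castHom_tmul, Dieu.BC.lift_tmul, map_smul]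
      congr 1
  | a + 1, b, x => by
    show Dieu.vSharpPow Vs ((b + a + 1) + 1) x = _
    rw [Dieu.vSharpPow_succ_apply, Dieu.vSharpPow_succ_apply]
    generalize Vs x = z
    induction z using Dieu.BC.induction_on with
    | zero => simp only [map_zero]
    | add z z' h h' => simp only [map_add, h, h']
    | tmul w y =>
      rw [Dieu.BC.map_tmul, Dieu.BC.map_tmul, Dieu.BC.lift_tmul, Dieu.BC.lift_tmul, map_smul,
        map_smul, map_smul, vSharpPow_add a b y]
      congr 1
      generalize Dieu.vSharpPow Vs a y = v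
      induction v using Dieu.BC.induction_on with
      | zero => simp only [map_zero]
      | add z z' h h' => simp only [map_add, h, h']
      | tmul u t =>
        rw [Dieu.BC.push_tmul, Dieu.BC.castHom_tmul, Dieu.BC.lift_tmul, Dieu.BC.lift_tmul,
          LinearMap.map_smulₛₗ, map_smul]
        congr 1
        show Dieu.BC.castHom _ (Dieu.BC.push _ σ (Dieu.BC.castHom _
          (Dieu.BC.push (σ ^ (b + 1)) (σ ^ (a + 1)) (Dieu.vSharpPow Vs b t)))) =
          Dieu.BC.castHom _ (Dieu.BC.push (σ ^ (b + 1)) (σ ^ (a + 1 + 1)) (Dieu.vSharpPow Vs b t))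
        generalize Dieu.vSharpPow Vs b t = z
        induction z using Dieu.BC.induction_on with
        | zero => simp only [map_zero]
        | add z z' h h' => simp only [map_add, h, h']
        | tmul s r =>
          simp only [Dieu.BC.push_tmul, Dieu.BC.castHom_tmul]
          rw [pow_succ' σ (a + 1)]
          rfl

local notation "J" => (W4c1extbt610.IV p R ⊔ Ideal.span {(p : WittVector p R)})

theorem map_frobenius_J_le : Ideal.map σ J ≤ J := by
  rw [Ideal.map_le_iff_le_comap]
  refine sup_le ?_ ?_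
  · intro x hx
    obtain ⟨y, rfl⟩ := mem_IV_iff.1 hx
    rw [Ideal.mem_comap, frobenius_verschiebung]
    exact Ideal.mem_sup_right (Ideal.mul_mem_left _ _ (Ideal.mem_span_singleton_self _))
  · rw [Ideal.span_le, Set.singleton_subset_iff, SetLike.mem_coe, Ideal.mem_comap, map_natCast]
    exact Ideal.mem_sup_right (Ideal.mem_span_singleton_self _)

theorem frobenius_pow_mem_J_pow (k : ℕ) : ∀ (m : ℕ) {x : WittVector p R}, x ∈ J ^ k →
    (σ ^ m) x ∈ J ^ k
  | 0, x, hx => by rwa [pow_zero]
  | m + 1, x, hx => by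
    rw [pow_succ']
    have h := Ideal.mem_map_of_mem σ (frobenius_pow_mem_J_pow k m hx)
    rw [Ideal.map_pow] at h
    exact Ideal.pow_right_mono map_frobenius_J_le k h

theorem exists_vSharpPow_mem_pow (hnil : Dieu.IsVNilpotent Vs) : ∀ k : ℕ, ∃ N : ℕ, ∀ x : P,
    Dieu.vSharpPow Vs N x ∈ (J ^ (k + 1)) • (⊤ : Submodule (WittVector p R) (Dieu.BC (σ ^ (N + 1)) P))
  | 0 => by
    obtain ⟨a, ha⟩ := hnil
    exact ⟨a, fun x => by rw [zero_add, pow_one]; exact ha x⟩
  | k + 1 => by
    obtain ⟨b, hb⟩ := exists_vSharpPow_mem_pow hnil k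
    obtain ⟨a, ha⟩ := hnil
    refine ⟨b + a + 1, fun x => ?_⟩
    rw [vSharpPow_add, pow_succ' _ (k + 1)]
    have hΦ : ∀ v, Dieu.BC.lift (σ ^ (a + 1)) (powAux Vs a b) v ∈
        (J ^ (k + 1)) • (⊤ : Submodule (WittVector p R) (Dieu.BC (σ ^ (b + a + 1 + 1)) P)) := by
      intro v
      induction v using Dieu.BC.induction_on with
      | zero => rw [map_zero]; exact zero_mem _
      | add z z' h h' => rw [map_add]; exact add_mem h h'
      | tmul u y =>
        rw [Dieu.BC.lift_tmul]
        refine Submodule.smul_mem _ u ?_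
        show Dieu.BC.castHom _ (Dieu.BC.push _ _ (Dieu.vSharpPow Vs b y)) ∈ _
        refine Submodule.smul_induction_on (hb y) (fun j hj z _ => ?_) (fun z z' h h' => ?_)
        · rw [LinearMap.map_smulₛₗ, map_smul]
          exact Submodule.smul_mem_smul (frobenius_pow_mem_J_pow _ _ hj) Submodule.mem_top
        · rw [map_add, map_add]; exact add_mem h h'
    refine Submodule.smul_induction_on (ha x) (fun j hj z _ => ?_) (fun z z' h h' => ?_)
    · rw [map_smul, ← Ideal.smul_eq_mul, Submodule.smul_assoc]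
      exact Submodule.smul_mem_smul hj (hΦ z)
    · rw [map_add]; exact add_mem h h'

theorem exists_J_pow_le_ker_truncate (hp : IsNilpotent (p : R)) (n : ℕ) :
    ∃ k : ℕ, J ^ k ≤ RingHom.ker (WittVector.truncate (p := p) (R := R) n) := by
  obtain ⟨a, ha⟩ := hp
  refine ⟨2 * (a * n), ?_⟩
  have h2 : J ^ 2 ≤ Ideal.span {(p : WittVector p R)} := by
    rw [pow_two, Ideal.sup_mul, Ideal.mul_sup]
    refine sup_le (sup_le ?_ Ideal.mul_le_right) Ideal.mul_le_left
    rw [IV_eq_ker]
    exact CommAlg4.WittTop.augIdeal_sq.le.trans Ideal.mul_le_left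
  rw [pow_mul]
  refine (Ideal.pow_right_mono h2 _).trans ?_
  rw [Ideal.span_singleton_pow, Ideal.span_le, Set.singleton_subset_iff, SetLike.mem_coe]
  exact CommAlg4.WittTop.p_pow_mul_mem_ker_truncate ha n

end Groth.Agent.DispLib
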