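import Groth.Agent.DispLib.Wker
import Mathlib.Algebra.CharP.Lemmas
import Mathlib.Data.Matrix.Mul
import Mathlib.LinearAlgebra.Projection

/-! The matrix criterion for the nilpotence condition. -/

set_option autoImplicit false

universe u v w

noncomputable section

namespace Groth.Agent.DispLib

open WittVector W4c1extbt610

variable {p : ℕ} [Fact p.Prime] {R : Type u} [CommRing R]

/-- `W(R) → R/pR`. -/
def chi (p : ℕ) [Fact p.Prime] (R : Type u) [CommRing R] :
    WittVector p R →+* R ⧸ Ideal.span {(p : R)} :=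
  (Ideal.Quotient.mk _).comp (constantCoeff : WittVector p R →+* R)

/-- The Frobenius of `R/pR`. -/
def frobQ (p : ℕ) [Fact p.Prime] (R : Type u) [CommRing R] :
    R ⧸ Ideal.span {(p : R)} →+* R ⧸ Ideal.span {(p : R)} where
  toFun x := x ^ p
  map_one' := one_pow p
  map_mul' x y := mul_pow x y p
  map_zero' := zero_pow (Fact.out : p.Prime).ne_zero
  map_add' x y := by
    obtain ⟨r, hr⟩ := exists_add_pow_prime_eq (R := R ⧸ Ideal.span {(p : R)}) (Fact.out : p.Prime) x y
    have hp : (p : R ⧸ Ideal.span {(p : R)}) = 0 := by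
      rw [← map_natCast (Ideal.Quotient.mk (Ideal.span {(p : R)})), Ideal.Quotient.eq_zero_iff_mem]
      exact Ideal.mem_span_singleton_self _
    rw [hr, hp, zero_mul, zero_mul, zero_mul, add_zero]

theorem chi_p : chi p R (p : WittVector p R) = 0 := by
  show Ideal.Quotient.mk _ (constantCoeff (p : WittVector p R)) = 0
  rw [map_natCast, Ideal.Quotient.eq_zero_iff_mem]
  exact Ideal.mem_span_singleton_self _

theorem chi_frobenius (w : WittVector p R) : chi p R (frobenius w) = frobQ p R (chi p R w) := by
  obtain ⟨y, hy⟩ := CommAlg4.WittTop.exists_verschiebung_of_mem (x := w - teichmuller p (w.coeff 0)) (by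
    rw [RingHom.mem_ker, map_sub]
    show w.coeff 0 - (teichmuller p (w.coeff 0)).coeff 0 = 0
    rw [teichmuller_coeff_zero, sub_self])
  have hw : w = teichmuller p (w.coeff 0) + verschiebung y := by rw [hy, add_sub_cancel]
  have h1 : frobenius (teichmuller p (w.coeff 0)) - teichmuller p (w.coeff 0) ^ p ∈
      RingHom.ker (chi p R) := by
    have e : frobenius (teichmuller p (w.coeff 0)) =
        (teichmuller p (w.coeff 0 ^ p) : WittVector p R) := frobenius_teichmuller_aux _
    rw [e, map_pow, sub_self]
    exact zero_mem _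
  rw [RingHom.mem_ker, map_sub, sub_eq_zero, map_pow] at h1
  show _ = chi p R w ^ p
  conv_lhs => rw [hw, map_add, frobenius_verschiebung, map_add, map_mul, chi_p, mul_zero, add_zero, h1]
  congr 1
where
  frobenius_teichmuller_aux (a : R) :
      frobenius (teichmuller p a) = (teichmuller p (a ^ p) : WittVector p R) := frobenius_teichmuller a

theorem mem_J_iff {w : WittVector p R} :
    w ∈ IV p R ⊔ Ideal.span {(p : WittVector p R)} ↔ chi p R w = 0 := by
  refine ⟨fun h => ?_, fun h => ?_⟩
  · obtain ⟨a, ha, b, hb, rfl⟩ := Submodule.mem_sup.1 h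
    obtain ⟨c, rfl⟩ := Ideal.mem_span_singleton'.1 hb
    rw [IV_eq_ker, RingHom.mem_ker] at ha
    rw [map_add, map_mul, chi_p, mul_zero, add_zero]
    show Ideal.Quotient.mk _ (constantCoeff a) = 0
    rw [ha, map_zero]
  · obtain ⟨r, hr⟩ := Ideal.mem_span_singleton'.1 (Ideal.Quotient.eq_zero_iff_mem.1 h)
    rw [← sub_add_cancel w (teichmuller p r * (p : WittVector p R))]
    refine Submodule.add_mem_sup ?_ (Ideal.mul_mem_left _ _ (Ideal.mem_span_singleton_self _))
    rw [IV_eq_ker, RingHom.mem_ker, map_sub, map_mul, map_natCast, ← hr]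
    show r * (p : R) - (teichmuller p r).coeff 0 * (p : R) = 0
    rw [teichmuller_coeff_zero, sub_self]

variable {P : Type v} [AddCommGroup P] [Module (WittVector p R) P]
  {ι : Type w} [Fintype ι] (e : Module.Basis ι (WittVector p R) P)

/-- The coordinate functional on `W ⊗_{σ^m} P`. -/
def coordPow (m : ℕ) (i : ι) :
    Dieu.BC ((WittVector.frobenius : WittVector p R →+* WittVector p R) ^ m) P →ₗ[WittVector p R]
      WittVector p R :=
  Dieu.BC.lift _
    { toFun := fun x => ((WittVector.frobenius : WittVector p R →+* WittVector p R) ^ m) (e.repr x i)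
      map_add' := fun a b => by rw [map_add, Finsupp.add_apply, map_add]
      map_smul' := fun c x => by rw [map_smul, Finsupp.smul_apply, smul_eq_mul, map_mul, smul_eq_mul] }

theorem coordPow_tmul (m : ℕ) (i : ι) (w : WittVector p R) (x : P) :
    coordPow e m i (Dieu.BC.tmul _ w x) =
      w * ((WittVector.frobenius : WittVector p R →+* WittVector p R) ^ m) (e.repr x i) := by
  rw [coordPow, Dieu.BC.lift_tmul]; rfl

theorem sum_coordPow (m : ℕ)
    (z : Dieu.BC ((WittVector.frobenius : WittVector p R →+* WittVector p R) ^ m) P) :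
    ∑ i, coordPow e m i z • Dieu.BC.tmul _ 1 (e i) = z := by
  induction z using Dieu.BC.induction_on with
  | zero => simp
  | tmul w x =>
    conv_rhs => rw [Dieu.BC.tmul_eq_smul_tmul_one, ← e.sum_repr x, ← Dieu.BC.ι_apply, map_sum,
      Finset.smul_sum]
    refine Finset.sum_congr rfl fun i _ => ?_
    rw [coordPow_tmul, LinearMap.map_smulₛₗ, smul_smul]
    rfl
  | add a b ha hb => simp only [map_add, add_smul, Finset.sum_add_distrib, ha, hb]

theorem mem_J_smul_iff (m : ℕ)
    (z : Dieu.BC ((WittVector.frobenius : WittVector p R →+* WittVector p R) ^ m) P) :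
    z ∈ (IV p R ⊔ Ideal.span {(p : WittVector p R)}) • (⊤ : Submodule (WittVector p R) _) ↔
      ∀ i, chi p R (coordPow e m i z) = 0 := by
  refine ⟨fun hz i => ?_, fun h => ?_⟩
  · refine Submodule.smul_induction_on hz (fun r hr x _ => ?_) (fun a b ha hb => ?_)
    · rw [map_smul, smul_eq_mul, map_mul, mem_J_iff.1 hr, zero_mul]
    · rw [map_add, map_add, ha, hb, add_zero]
  · rw [← sum_coordPow e m z]
    exact Submodule.sum_mem _ fun i _ => Submodule.smul_mem_smul (mem_J_iff.2 (h i)) Submodule.mem_top

theorem chi_coordPow_cast_push (n : ℕ) (i : ι)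
    (v : Dieu.BC ((WittVector.frobenius : WittVector p R →+* WittVector p R) ^ (n + 1)) P) :
    chi p R (coordPow e (n + 1 + 1) i (Dieu.BC.castHom (Dieu.comp_pow_eq_pow_succ _ (n + 1))
      (Dieu.BC.push _ (WittVector.frobenius : WittVector p R →+* WittVector p R) v))) =
      frobQ p R (chi p R (coordPow e (n + 1) i v)) := by
  rw [← chi_frobenius]
  congr 1
  induction v using Dieu.BC.induction_on with
  | zero => simp only [map_zero]
  | tmul w x =>
    rw [Dieu.BC.push_tmul, Dieu.BC.castHom_tmul, coordPow_tmul, coordPow_tmul, map_mul, pow_succ' _ (n + 1)]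
    rfl
  | add a b ha hb => simp only [map_add, ha, hb]

end Groth.Agent.DispLib
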