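import Groth.Agent.DispLib.Wker
import Mathlib.LinearAlgebra.FreeModule.Finite.Basic
import Mathlib.Algebra.Module.Projective

/-! Rigidity of morphisms of displays. -/

set_option autoImplicit false

universe u v w

noncomputable section

namespace Groth.Agent.DispLib

open WittVector W4c1extbt610

/-! ### Coordinates -/

section Coord

variable {A : Type u} [CommRing A] {M : Type v} [AddCommGroup M] [Module A M]

theorem exists_coord [Module.Finite A M] [Module.Projective A M] :
    ∃ (n : ℕ) (e : Fin n → M) (φ : Fin n → (M →ₗ[A] A)), ∀ z, ∑ k, φ k z • e k = z := by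
  obtain ⟨n, f, i, -, -, hfi⟩ := Module.Finite.exists_comp_eq_id_of_projective A M
  refine ⟨n, fun k => f (Pi.single k 1), fun k => (LinearMap.proj k).comp i, fun z => ?_⟩
  have h := LinearMap.congr_fun hfi z
  simp only [LinearMap.comp_apply, LinearMap.id_apply] at h
  conv_rhs => rw [← h, pi_eq_sum_univ' (i z), map_sum]
  simp only [map_smul, LinearMap.comp_apply, LinearMap.proj_apply]

theorem apply_mem_of_mem_smul (I : Ideal A) (φ : M →ₗ[A] A) {z : M}
    (hz : z ∈ I • (⊤ : Submodule A M)) : φ z ∈ I := by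
  refine Submodule.smul_induction_on hz (fun a ha x _ => ?_) (fun a b ha hb => ?_)
  · rw [map_smul, smul_eq_mul]; exact I.mul_mem_right _ ha
  · rw [map_add]; exact add_mem ha hb

theorem mem_smul_top_iff {n : ℕ} {e : Fin n → M} {φ : Fin n → (M →ₗ[A] A)}
    (h : ∀ z, ∑ k, φ k z • e k = z) (I : Ideal A) {z : M} :
    z ∈ I • (⊤ : Submodule A M) ↔ ∀ k, φ k z ∈ I := by
  refine ⟨fun hz k => apply_mem_of_mem_smul I _ hz, fun hz => ?_⟩
  rw [← h z]
  exact Submodule.sum_mem _ fun k _ => Submodule.smul_mem_smul (hz k) Submodule.mem_top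

theorem ι_surjective {B : Type w} [CommRing B] (g : A →+* B) (hg : Function.Surjective g) :
    Function.Surjective (Dieu.BC.ι g M) := by
  intro z
  induction z using Dieu.BC.induction_on g with
  | zero => exact ⟨0, map_zero _⟩
  | tmul b x =>
    obtain ⟨a, rfl⟩ := hg b
    exact ⟨a • x, by rw [Dieu.BC.ι_apply, Dieu.BC.tmul_apply_eq]⟩
  | add a b ha hb =>
    obtain ⟨x, rfl⟩ := ha
    obtain ⟨y, rfl⟩ := hb
    exact ⟨x + y, map_add _ x y⟩

theorem ι_eq_zero_iff {B : Type w} [CommRing B] (g : A →+* B) (hg : Function.Surjective g) {z : M} :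
    Dieu.BC.tmul g 1 z = 0 ↔ z ∈ RingHom.ker g • (⊤ : Submodule A M) := by
  refine ⟨fun hz => ?_, fun hz => ?_⟩
  · let N := M ⧸ (RingHom.ker g • (⊤ : Submodule A M))
    have hker : RingHom.ker g ≤ RingHom.ker (Module.toAddMonoidEnd A N) := by
      intro w hw
      refine AddMonoidHom.ext fun m => ?_
      obtain ⟨x, rfl⟩ := Submodule.Quotient.mk_surjective _ m
      show w • (Submodule.Quotient.mk x : N) = 0
      rw [← Submodule.Quotient.mk_smul, Submodule.Quotient.mk_eq_zero]
      exact Submodule.smul_mem_smul hw Submodule.mem_top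
    let ρ : B →+* AddMonoid.End N :=
      RingHom.liftOfSurjective g hg ⟨Module.toAddMonoidEnd A N, hker⟩
    letI : Module B N := Module.compHom N ρ
    let ψ : M →ₛₗ[g] N :=
      { toFun := Submodule.Quotient.mk
        map_add' := fun a b => rfl
        map_smul' := fun a m => by
          show (Submodule.Quotient.mk (a • m) : N) = ρ (g a) (Submodule.Quotient.mk m)
          simp only [ρ, RingHom.liftOfRightInverse_comp_apply]
          rfl }
    have h1 := congrArg (Dieu.BC.lift g ψ) hz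
    rw [Dieu.BC.lift_tmul, one_smul, map_zero] at h1
    exact (Submodule.Quotient.mk_eq_zero _).1 h1
  · refine Submodule.smul_induction_on hz (fun a ha x _ => ?_) (fun a b ha hb => ?_)
    · rw [← Dieu.BC.tmul_apply_eq, RingHom.mem_ker.1 ha, Dieu.BC.zero_tmul]
    · rw [Dieu.BC.tmul_add, ha, hb, add_zero]

end Coord

variable {p : ℕ} [Fact p.Prime] {S : Type u} [CommRing S]
  {P : Type v} [AddCommGroup P] [Module (WittVector p S) P]
  {P' : Type w} [AddCommGroup P'] [Module (WittVector p S) P']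

/-- Auxiliary data on the target of a morphism. -/
structure Frame (D' : Display3n p S P') where
  L : Submodule (WittVector p S) P'
  T : Submodule (WittVector p S) P'
  hLT : IsCompl L T
  hQ : D'.Q = L ⊔ IV p S • T
  n : ℕ
  e : Fin n → P'
  φ : Fin n → (P' →ₗ[WittVector p S] WittVector p S)
  hφ : ∀ z, ∑ k, φ k z • e k = z

theorem exists_frame (D' : Display3n p S P') : Nonempty (Frame D') := by
  haveI := D'.finite
  haveI := D'.projective
  obtain ⟨L, T, hLT, hQ⟩ := D'.exists_normal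
  obtain ⟨n, e, φ, hφ⟩ := exists_coord (A := WittVector p S) (M := P')
  exact ⟨⟨L, T, hLT, hQ, n, e, φ, hφ⟩⟩

variable {D' : Display3n p S P'} (Fr : Frame D')

theorem Frame.hLQ : Fr.L ≤ D'.Q := by rw [Fr.hQ]; exact le_sup_left

/-- An extension of `V⁻¹` to elements with coordinates in `W(b)`, modulo `W(c)`. -/
def Vext (z : P') : P' := ∑ k, tl (Fr.φ k (z - πL Fr.hLT z)) • D'.F (Fr.e k)

section Step

variable {b c : Ideal S} (hcb : c ≤ b) (h2 : b * b ≤ c) (hp : ∀ x ∈ b, (p : S) * x ∈ c)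

theorem coord_mem {z : P'} (hz : z ∈ WI p b • (⊤ : Submodule (WittVector p S) P')) (k : Fin Fr.n) :
    Fr.φ k (z - πL Fr.hLT z) ∈ WI p b :=
  apply_mem_of_mem_smul (WI p b) ((Fr.φ k).comp (LinearMap.id - πL Fr.hLT)) hz

theorem Vext_mem {z : P'} (hz : z ∈ WI p b • (⊤ : Submodule (WittVector p S) P')) :
    Vext Fr z ∈ WI p b • (⊤ : Submodule (WittVector p S) P') :=
  Submodule.sum_mem _ fun k _ => Submodule.smul_mem_smul (tl_mem (coord_mem Fr hz k)) Submodule.mem_top

include h2 in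
theorem Vext_add {z z' : P'} (hz : z ∈ WI p b • (⊤ : Submodule (WittVector p S) P'))
    (hz' : z' ∈ WI p b • (⊤ : Submodule (WittVector p S) P')) :
    Vext Fr (z + z') - (Vext Fr z + Vext Fr z') ∈ WI p c • (⊤ : Submodule (WittVector p S) P') := by
  rw [Vext, Vext, Vext, ← Finset.sum_add_distrib, ← Finset.sum_sub_distrib]
  refine Submodule.sum_mem _ fun k _ => ?_
  rw [← add_smul, ← sub_smul, map_add, add_sub_add_comm, map_add]
  exact Submodule.smul_mem_smul (tl_add_sub_mem h2 (coord_mem Fr hz k) (coord_mem Fr hz' k))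
    Submodule.mem_top

include h2 hp in
theorem Vext_smul (w : WittVector p S) {z : P'}
    (hz : z ∈ WI p b • (⊤ : Submodule (WittVector p S) P')) :
    Vext Fr (w • z) - frobenius w • Vext Fr z ∈ WI p c • (⊤ : Submodule (WittVector p S) P') := by
  rw [Vext, Vext, Finset.smul_sum, ← Finset.sum_sub_distrib]
  refine Submodule.sum_mem _ fun k _ => ?_
  rw [smul_smul, ← sub_smul, map_smul, ← smul_sub, map_smul, smul_eq_mul]
  exact Submodule.smul_mem_smul (tl_mul_sub_mem h2 hp w (coord_mem Fr hz k)) Submodule.mem_top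

include hcb h2 in
theorem Vext_congr {z z' : P'} (hz : z ∈ WI p b • (⊤ : Submodule (WittVector p S) P'))
    (hz' : z' ∈ WI p b • (⊤ : Submodule (WittVector p S) P'))
    (h : z - z' ∈ WI p c • (⊤ : Submodule (WittVector p S) P')) :
    Vext Fr z - Vext Fr z' ∈ WI p c • (⊤ : Submodule (WittVector p S) P') := by
  rw [Vext, Vext, ← Finset.sum_sub_distrib]
  refine Submodule.sum_mem _ fun k _ => ?_
  rw [← sub_smul]
  refine Submodule.smul_mem_smul (tl_congr hcb h2 (coord_mem Fr hz k) (coord_mem Fr hz' k) ?_)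
    Submodule.mem_top
  have := coord_mem Fr h k
  rwa [map_sub (πL Fr.hLT), sub_sub_sub_comm, map_sub] at this

theorem sub_πL_mem_IV (z : D'.Q) :
    (z : P') - πL Fr.hLT z ∈ IV p S • (⊤ : Submodule (WittVector p S) P') := by
  have hz : (z : P') ∈ Fr.L ⊔ IV p S • Fr.T := Fr.hQ.le z.2
  obtain ⟨l, hl, i, hi, hli⟩ := Submodule.mem_sup.1 hz
  rw [← hli, map_add, πL_of_mem Fr.hLT hl, πL_of_mem' Fr.hLT (Submodule.smul_le_right hi), add_zero,
    add_sub_cancel_left]
  exact Submodule.smul_mono le_rfl le_top hi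

include h2 hp in
theorem Vinv_sub_Vext (z : D'.Q) (hz : (z : P') ∈ WI p b • (⊤ : Submodule (WittVector p S) P')) :
    D'.Vinv z - Vext Fr z ∈ WI p c • (⊤ : Submodule (WittVector p S) P') := by
  have hsplit : z = (∑ k, Fr.φ k z • (⟨πL Fr.hLT (Fr.e k), Fr.hLQ (πL_mem Fr.hLT _)⟩ : D'.Q)) +
      ∑ k, (⟨verschiebung (tl (Fr.φ k ((z : P') - πL Fr.hLT z))) • Fr.e k,
        verschiebung_smul_mem D' _ _⟩ : D'.Q) := by
    refine Subtype.ext ?_
    simp only [Submodule.coe_add, Submodule.coe_sum, Submodule.coe_smul]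
    have h1 : ∀ k, verschiebung (tl (Fr.φ k ((z : P') - πL Fr.hLT z))) =
        Fr.φ k ((z : P') - πL Fr.hLT z) := fun k => by
      obtain ⟨w, hw⟩ := mem_IV_iff.1 (apply_mem_of_mem_smul _ (Fr.φ k) (sub_πL_mem_IV Fr z))
      rw [← hw, tl_verschiebung]
    simp only [h1, ← map_smul, ← map_sum, Fr.hφ, add_sub_cancel]
  conv in D'.Vinv z => rw [hsplit]
  rw [map_add, map_sum, map_sum]
  simp only [D'.Vinv_verschiebung_smul, Vinv_smul]
  rw [Vext, add_sub_cancel_right]
  exact Submodule.sum_mem _ fun k _ => Submodule.smul_mem_smul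
    (frobenius_mem_WI h2 hp (apply_mem_of_mem_smul _ _ hz)) Submodule.mem_top

variable {D : Display3n p S P} (δ : P →ₗ[WittVector p S] P')

/-- Iterates of `Vext` applied to a morphism. -/
def gseq : ℕ → P → P'
  | 0 => fun x => Vext Fr (δ x)
  | n + 1 => fun x => Vext Fr (gseq n x)

variable {δ} (hδ : ∀ x, δ x ∈ WI p b • (⊤ : Submodule (WittVector p S) P'))

include hδ in
theorem gseq_mem : ∀ (n : ℕ) (x : P), gseq Fr δ n x ∈ WI p b • (⊤ : Submodule (WittVector p S) P')
  | 0, x => Vext_mem Fr (hδ x)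
  | n + 1, x => Vext_mem Fr (gseq_mem n x)

include hcb h2 hδ in
theorem gseq_add : ∀ (n : ℕ) (x y : P),
    gseq Fr δ n (x + y) - (gseq Fr δ n x + gseq Fr δ n y) ∈
      WI p c • (⊤ : Submodule (WittVector p S) P')
  | 0, x, y => by
    simp only [gseq, map_add]
    exact Vext_add Fr h2 (hδ x) (hδ y)
  | n + 1, x, y => by
    simp only [gseq]
    have h1 := Vext_congr Fr hcb h2 (gseq_mem Fr hδ n (x + y))
      (add_mem (gseq_mem Fr hδ n x) (gseq_mem Fr hδ n y)) (gseq_add n x y)
    have h3 := Vext_add Fr h2 (gseq_mem Fr hδ n x) (gseq_mem Fr hδ n y)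
    have := add_mem h1 h3
    rwa [sub_add_sub_cancel] at this

include hcb h2 hp hδ in
theorem gseq_smul : ∀ (n : ℕ) (w : WittVector p S) (x : P),
    gseq Fr δ n (w • x) -
      ((WittVector.frobenius : WittVector p S →+* WittVector p S) ^ (n + 1)) w • gseq Fr δ n x ∈
      WI p c • (⊤ : Submodule (WittVector p S) P')
  | 0, w, x => by
    simp only [gseq, map_smul, zero_add, pow_one]
    exact Vext_smul Fr h2 hp w (hδ x)
  | n + 1, w, x => by
    simp only [gseq]
    have h1 := Vext_congr Fr hcb h2 (gseq_mem Fr hδ n (w • x))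
      (Submodule.smul_mem _ _ (gseq_mem Fr hδ n x)) (gseq_smul n w x)
    have h3 := Vext_smul Fr h2 hp
      (((WittVector.frobenius : WittVector p S →+* WittVector p S) ^ (n + 1)) w) (gseq_mem Fr hδ n x)
    have := add_mem h1 h3
    rw [sub_add_sub_cancel] at this
    rw [← Dieu.comp_pow_eq_pow_succ]
    exact this

/-- The semilinear map `x ↦ gseq n x mod W(c)`. -/
def G (n : ℕ) : P →ₛₗ[((WittVector.frobenius : WittVector p S →+* WittVector p S) ^ (n + 1))]
    P' ⧸ (WI p c • (⊤ : Submodule (WittVector p S) P')) where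
  toFun x := Submodule.Quotient.mk (gseq Fr δ n x)
  map_add' x y := by
    rw [← Submodule.Quotient.mk_add, Submodule.Quotient.eq]
    exact gseq_add Fr hcb h2 hδ n x y
  map_smul' w x := by
    rw [← Submodule.Quotient.mk_smul, Submodule.Quotient.eq]
    exact gseq_smul Fr hcb h2 hp hδ n w x

include hp in
theorem exists_rep (n : ℕ)
    (v : Dieu.BC ((WittVector.frobenius : WittVector p S →+* WittVector p S) ^ (n + 1)) P) :
    ∃ r ∈ WI p b • (⊤ : Submodule (WittVector p S) P'),
      Submodule.Quotient.mk r = Dieu.BC.lift _ (G Fr hcb h2 hp hδ n) v ∧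
      Submodule.Quotient.mk (Vext Fr r) = Dieu.BC.lift _ (G Fr hcb h2 hp hδ (n + 1))
        (Dieu.BC.castHom (Dieu.comp_pow_eq_pow_succ _ (n + 1))
          (Dieu.BC.push _ (WittVector.frobenius : WittVector p S →+* WittVector p S) v)) := by
  induction v using Dieu.BC.induction_on with
  | zero =>
    refine ⟨0, zero_mem _, by simp, ?_⟩
    rw [map_zero, map_zero, map_zero, Submodule.Quotient.mk_eq_zero]
    have h := Vext_smul Fr h2 hp (z := (0 : P')) 0 (zero_mem _)
    rwa [zero_smul, map_zero, zero_smul, sub_zero] at h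
  | tmul u y =>
    refine ⟨u • gseq Fr δ n y, Submodule.smul_mem _ _ (gseq_mem Fr hδ n y), ?_, ?_⟩
    · rw [Dieu.BC.lift_tmul, Submodule.Quotient.mk_smul]
      rfl
    · rw [Dieu.BC.push_tmul, Dieu.BC.castHom_tmul, Dieu.BC.lift_tmul]
      show _ = frobenius u • Submodule.Quotient.mk (gseq Fr δ (n + 1) y)
      rw [← Submodule.Quotient.mk_smul, Submodule.Quotient.eq]
      exact Vext_smul Fr h2 hp u (gseq_mem Fr hδ n y)
  | add v v' hv hv' =>
    obtain ⟨r, hr, h1, h1'⟩ := hv
    obtain ⟨r', hr', h3, h3'⟩ := hv'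
    refine ⟨r + r', add_mem hr hr', ?_, ?_⟩
    · rw [Submodule.Quotient.mk_add, h1, h3, map_add]
    · rw [map_add, map_add, map_add, ← h1', ← h3', ← Submodule.Quotient.mk_add,
        Submodule.Quotient.eq]
      exact Vext_add Fr h2 hr hr'

variable {Vs : P →ₗ[WittVector p S] Dieu.BC (WittVector.frobenius : WittVector p S →+* WittVector p S) P}
  (hVs : Dieu.IsVSharp D Vs) (hδQ : ∀ y : D.Q, δ (y : P) ∈ D'.Q)
  (hδV : ∀ y : D.Q, δ (D.Vinv y) = D'.Vinv ⟨δ (y : P), hδQ y⟩)

include hVs hδV in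
theorem eq_lift_vSharpPow : ∀ (n : ℕ) (x : P),
    (Submodule.Quotient.mk (δ x) : P' ⧸ (WI p c • (⊤ : Submodule (WittVector p S) P'))) =
      Dieu.BC.lift _ (G Fr hcb h2 hp hδ n) (Dieu.vSharpPow Vs n x)
  | 0, x => by
    have e : ((WI p c • (⊤ : Submodule (WittVector p S) P')).mkQ).comp δ =
        (Dieu.BC.lift _ (G Fr hcb h2 hp hδ 0)).comp (Dieu.vSharpPow Vs 0) := by
      refine ext_of_Vinv D fun y => ?_
      have h := hVs.app_smul_Vinv 1 y
      rw [one_smul] at h
      rw [LinearMap.comp_apply, LinearMap.comp_apply, Dieu.vSharpPow_zero_apply, h,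
        Dieu.BC.castHom_tmul, Dieu.BC.lift_tmul, one_smul, Submodule.mkQ_apply, hδV y]
      show _ = Submodule.Quotient.mk (gseq Fr δ 0 (y : P))
      rw [Submodule.Quotient.eq]
      exact Vinv_sub_Vext Fr h2 hp ⟨δ (y : P), hδQ y⟩ (hδ _)
    exact LinearMap.congr_fun e x
  | n + 1, x => by
    rw [eq_lift_vSharpPow 0 x, Dieu.vSharpPow_succ_apply, Dieu.vSharpPow_zero_apply]
    generalize Vs x = z
    induction z using Dieu.BC.induction_on with
    | zero => simp only [map_zero]
    | add a b ha hb => simp only [map_add, ha, hb]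
    | tmul w y =>
      obtain ⟨r, hr, h1, h1'⟩ := exists_rep Fr hcb h2 hp hδ n (Dieu.vSharpPow Vs n y)
      rw [← eq_lift_vSharpPow n y] at h1
      rw [Dieu.BC.castHom_tmul, Dieu.BC.lift_tmul, Dieu.BC.map_tmul, Dieu.BC.lift_tmul,
        map_smul, map_smul, ← h1']
      show w • Submodule.Quotient.mk (gseq Fr δ 0 y) = _
      congr 1
      rw [Submodule.Quotient.eq]
      exact Vext_congr Fr hcb h2 (hδ y) hr ((Submodule.Quotient.eq _).1 h1.symm)

include hcb h2 hp hδ hδV in
theorem rigid_step (hD : Dieu.IsDisplay D) (x : P) :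
    δ x ∈ WI p c • (⊤ : Submodule (WittVector p S) P') := by
  obtain ⟨Fr⟩ := exists_frame D'
  obtain ⟨Vs, hVs, N, hN⟩ := hD
  rw [← Submodule.Quotient.mk_eq_zero, eq_lift_vSharpPow Fr hcb h2 hp hδ hVs hδQ hδV N x]
  refine Submodule.smul_induction_on (hN x) (fun a ha v _ => ?_) (fun a b ha hb => ?_)
  · obtain ⟨r, hr, h1, -⟩ := exists_rep Fr hcb h2 hp hδ N v
    rw [map_smul, ← h1, ← Submodule.Quotient.mk_smul, Submodule.Quotient.mk_eq_zero,
      mem_smul_top_iff Fr.hφ]
    intro k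
    rw [map_smul, smul_eq_mul]
    exact sup_mul_mem_WI h2 hp ha (apply_mem_of_mem_smul _ _ hr)
  · rw [map_add, ha, hb, add_zero]

end Step

/-- The descending chain `a, p a + a ^ 2, …`. -/
def chain (p : ℕ) (a : Ideal S) : ℕ → Ideal S
  | 0 => a
  | n + 1 => Ideal.span {(p : S)} * chain p a n ⊔ chain p a n * chain p a n

theorem chain_succ_le (a : Ideal S) (n : ℕ) : chain p a (n + 1) ≤ chain p a n :=
  sup_le Ideal.mul_le_right Ideal.mul_le_left

theorem chain_le_self (a : Ideal S) : ∀ n, chain p a n ≤ a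
  | 0 => le_rfl
  | n + 1 => (chain_succ_le a n).trans (chain_le_self a n)

theorem chain_le (a : Ideal S) : ∀ n, chain p a n ≤ (Ideal.span {(p : S)} ⊔ a) ^ (n + 1)
  | 0 => by rw [pow_one]; exact le_sup_right
  | n + 1 => by
    rw [pow_succ' _ (n + 1)]
    exact sup_le (Ideal.mul_mono le_sup_left (chain_le a n))
      (Ideal.mul_mono ((chain_le_self a n).trans le_sup_right) (chain_le a n))

theorem exists_chain_eq_bot {a : Ideal S} (hp : IsNilpotent (p : S)) (ha : IsNilpotent a) :
    ∃ n, chain p a n = ⊥ := by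
  have h : IsNilpotent (Ideal.span {(p : S)} + a) := by
    refine Commute.isNilpotent_add (Commute.all _ _) ?_ ha
    obtain ⟨k, hk⟩ := hp
    exact ⟨k, by rw [Ideal.span_singleton_pow, hk, Ideal.span_singleton_zero, Ideal.zero_eq_bot]⟩
  obtain ⟨n, hn⟩ := h
  refine ⟨n, le_bot_iff.1 ((chain_le a n).trans ?_)⟩
  rw [← Ideal.add_eq_sup, pow_succ, hn, zero_mul, Ideal.zero_eq_bot]

theorem rigidity {D : Display3n p S P} {D' : Display3n p S P'} (hD : Dieu.IsDisplay D)
    (hp : IsNilpotent (p : S)) {a : Ideal S} (ha : IsNilpotent a) (δ : P →ₗ[WittVector p S] P')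
    (hδQ : ∀ y : D.Q, δ (y : P) ∈ D'.Q)
    (hδV : ∀ y : D.Q, δ (D.Vinv y) = D'.Vinv ⟨δ (y : P), hδQ y⟩)
    (h0 : ∀ x, δ x ∈ WI p a • (⊤ : Submodule (WittVector p S) P')) : δ = 0 := by
  have hall : ∀ n x, δ x ∈ WI p (chain p a n) • (⊤ : Submodule (WittVector p S) P') := by
    intro n
    induction n with
    | zero => exact h0
    | succ n ih =>
      exact fun x => rigid_step (chain_succ_le a n) le_sup_right
        (fun y hy => Ideal.mem_sup_left (Ideal.mul_mem_mul (Ideal.mem_span_singleton_self _) hy))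
        ih hδQ hδV hD x
  obtain ⟨n, hn⟩ := exists_chain_eq_bot hp ha
  refine LinearMap.ext fun x => ?_
  have := hall n x
  rwa [hn, WI_bot, Submodule.bot_smul, Submodule.mem_bot] at this

/-- A morphism of displays modulo `W(b)`. -/
structure IsHomMod (D : Display3n p S P) (D' : Display3n p S P') (b : Ideal S)
    (ψ : P →ₗ[WittVector p S] P') : Prop where
  commF : ∀ x, ψ (D.F x) - D'.F (ψ x) ∈ WI p b • (⊤ : Submodule (WittVector p S) P')
  exQ : ∀ y : D.Q, ∃ q : D'.Q, ψ (y : P) - q ∈ WI p b • (⊤ : Submodule (WittVector p S) P') ∧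
    ψ (D.Vinv y) - D'.Vinv q ∈ WI p b • (⊤ : Submodule (WittVector p S) P')

theorem IsHomMod.p_smul {D : Display3n p S P} {D' : Display3n p S P'} {b c : Ideal S}
    (h2 : b * b ≤ c) (hp : ∀ x ∈ b, (p : S) * x ∈ c) {ψ : P →ₗ[WittVector p S] P'}
    (h : IsHomMod D D' b ψ) : IsHomMod D D' c ((p : WittVector p S) • ψ) := by
  have hmul : ∀ z ∈ WI p b • (⊤ : Submodule (WittVector p S) P'),
      (p : WittVector p S) • z ∈ WI p c • (⊤ : Submodule (WittVector p S) P') := by
    intro z hz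
    refine Submodule.smul_induction_on hz (fun a ha x _ => ?_) (fun a b ha hb => ?_)
    · rw [smul_smul]; exact Submodule.smul_mem_smul (natCast_mul_mem_WI h2 hp ha) Submodule.mem_top
    · rw [smul_add]; exact add_mem ha hb
  refine ⟨fun x => ?_, fun y => ?_⟩
  · rw [LinearMap.smul_apply, LinearMap.smul_apply, F_smul, map_natCast, ← smul_sub]
    exact hmul _ (h.commF x)
  · obtain ⟨q, h1, h3⟩ := h.exQ y
    refine ⟨(p : WittVector p S) • q, ?_, ?_⟩
    · rw [Submodule.coe_smul, LinearMap.smul_apply, ← smul_sub]; exact hmul _ h1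
    · rw [Vinv_smul, map_natCast, LinearMap.smul_apply, ← smul_sub]; exact hmul _ h3

theorem IsHomMod.isHom {D : Display3n p S P} {D' : Display3n p S P'}
    {ψ : P →ₗ[WittVector p S] P'} (h : IsHomMod D D' ⊥ ψ) : IsHom D D' ψ := by
  have hz : ∀ {z : P'}, z ∈ WI p (⊥ : Ideal S) • (⊤ : Submodule (WittVector p S) P') → z = 0 :=
    fun hz => by rwa [WI_bot, Submodule.bot_smul, Submodule.mem_bot] at hz
  have hmap : ∀ q : P, q ∈ D.Q → ψ q ∈ D'.Q := fun q hq => by
    obtain ⟨q', h1, -⟩ := h.exQ ⟨q, hq⟩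
    rw [sub_eq_zero.1 (hz h1)]
    exact q'.2
  refine ⟨hmap, fun x => sub_eq_zero.1 (hz (h.commF x)), fun q => ?_⟩
  obtain ⟨q', h1, h3⟩ := h.exQ q
  rw [sub_eq_zero.1 (hz h3)]
  exact Vinv_congr D' (sub_eq_zero.1 (hz h1)).symm

theorem IsHomMod.exists_pow {D : Display3n p S P} {D' : Display3n p S P'} {a : Ideal S}
    (hp : IsNilpotent (p : S)) (ha : IsNilpotent a) {ψ : P →ₗ[WittVector p S] P'}
    (h : IsHomMod D D' a ψ) : ∃ n : ℕ, IsHom D D' ((p : WittVector p S) ^ n • ψ) := by
  have hall : ∀ n : ℕ, IsHomMod D D' (chain p a n) ((p : WittVector p S) ^ n • ψ) := by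
    intro n
    induction n with
    | zero => rw [pow_zero, one_smul]; exact h
    | succ n ih =>
      have := ih.p_smul (c := chain p a (n + 1)) le_sup_right
        (fun y hy => Ideal.mem_sup_left (Ideal.mul_mem_mul (Ideal.mem_span_singleton_self _) hy))
      rwa [smul_smul, ← pow_succ'] at this
  obtain ⟨n, hn⟩ := exists_chain_eq_bot hp ha
  have := hall n
  rw [hn] at this
  exact ⟨n, this.isHom⟩

end Groth.Agent.DispLib
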