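import Groth.Agent.DispLib.Basic
import Mathlib.Algebra.TrivSqZeroExt.Basic
import Groth.Agent.CommAlg4.WittTwist

/-! The Witt vectors with entries in an ideal. -/

set_option autoImplicit false

universe u

noncomputable section

namespace Groth.Agent.DispLib

open WittVector W4c1extbt610

variable {p : ℕ} [Fact p.Prime] {S : Type u} [CommRing S]

/-- `W(b)`: Witt vectors with all components in `b`. -/
def WI (p : ℕ) [Fact p.Prime] {S : Type u} [CommRing S] (b : Ideal S) : Ideal (WittVector p S) :=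
  RingHom.ker (WittVector.map (Ideal.Quotient.mk b) : WittVector p S →+* WittVector p (S ⧸ b))

theorem mem_WI {b : Ideal S} {x : WittVector p S} : x ∈ WI p b ↔ ∀ n, x.coeff n ∈ b := by
  rw [WI, RingHom.mem_ker]
  refine ⟨fun h n => ?_, fun h => WittVector.ext fun n => ?_⟩
  · rw [← Ideal.Quotient.eq_zero_iff_mem, ← WittVector.map_coeff, h, WittVector.zero_coeff]
  · rw [WittVector.map_coeff, WittVector.zero_coeff, Ideal.Quotient.eq_zero_iff_mem]
    exact h n

theorem WI_mono {b b' : Ideal S} (h : b ≤ b') : WI p b ≤ WI p b' := fun x hx =>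
  mem_WI.2 fun n => h (mem_WI.1 hx n)

theorem WI_bot : WI p (⊥ : Ideal S) = ⊥ := by
  ext x
  rw [mem_WI, Ideal.mem_bot]
  exact ⟨fun h => WittVector.ext fun n => by rw [WittVector.zero_coeff]; exact Ideal.mem_bot.1 (h n),
    fun h n => by rw [h, WittVector.zero_coeff]; exact zero_mem _⟩

theorem ker_map_eq_WI {R : Type u} [CommRing R] (f : S →+* R) :
    RingHom.ker (WittVector.map f : WittVector p S →+* WittVector p R) = WI p (RingHom.ker f) := by
  ext x
  rw [mem_WI, RingHom.mem_ker]
  refine ⟨fun h n => ?_, fun h => WittVector.ext fun n => ?_⟩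
  · rw [RingHom.mem_ker, ← WittVector.map_coeff, h, WittVector.zero_coeff]
  · rw [WittVector.map_coeff, WittVector.zero_coeff]
    exact h n

theorem teichmuller_mem_WI {b : Ideal S} {a : S} (ha : a ∈ b) : teichmuller p a ∈ WI p b := by
  rw [WI, RingHom.mem_ker, map_teichmuller, Ideal.Quotient.eq_zero_iff_mem.2 ha, teichmuller_zero]

theorem verschiebung_mem_WI_iff {b : Ideal S} {x : WittVector p S} :
    verschiebung x ∈ WI p b ↔ x ∈ WI p b := by
  rw [WI, RingHom.mem_ker, RingHom.mem_ker, map_verschiebung]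
  refine ⟨fun h => verschiebung_injective ?_, fun h => by rw [h, map_zero]⟩
  rw [h, map_zero]

/-- `a ↦ (a - [a₀]) / V`. -/
def tl (a : WittVector p S) : WittVector p S :=
  Classical.choose (CommAlg4.WittTop.exists_verschiebung_of_mem
    (x := a - teichmuller p (a.coeff 0)) (by
      rw [RingHom.mem_ker, map_sub]
      show a.coeff 0 - (teichmuller p (a.coeff 0)).coeff 0 = 0
      rw [teichmuller_coeff_zero, sub_self]))

theorem verschiebung_tl (a : WittVector p S) :
    verschiebung (tl a) = a - teichmuller p (a.coeff 0) :=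
  Classical.choose_spec (_ : ∃ y, verschiebung y = a - teichmuller p (a.coeff 0))

theorem tl_verschiebung (w : WittVector p S) : tl (verschiebung w) = w := by
  refine verschiebung_injective ?_
  rw [verschiebung_tl, verschiebung_coeff_zero, teichmuller_zero, sub_zero]

theorem tl_mem {b : Ideal S} {a : WittVector p S} (ha : a ∈ WI p b) : tl a ∈ WI p b := by
  rw [← verschiebung_mem_WI_iff, verschiebung_tl]
  exact sub_mem ha (teichmuller_mem_WI (mem_WI.1 ha 0))

theorem aeval_mem {ι : Type*} {b : Ideal S} (q : MvPolynomial ι ℤ) (g : ι → S) (hg : ∀ i, g i ∈ b)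
    (h0 : MvPolynomial.constantCoeff q = 0) : MvPolynomial.aeval g q ∈ b := by
  rw [← Ideal.Quotient.eq_zero_iff_mem]
  have h1 : Ideal.Quotient.mk b (MvPolynomial.aeval g q) =
      MvPolynomial.eval₂ ((Ideal.Quotient.mk b).comp (algebraMap ℤ S)) (0 : ι → S ⧸ b) q := by
    rw [MvPolynomial.aeval_def, ← RingHom.coe_coe, MvPolynomial.eval₂_comp_left]
    congr 1
    funext i
    exact Ideal.Quotient.eq_zero_iff_mem.2 (hg i)
  rw [h1, MvPolynomial.eval₂_zero_apply, h0, map_zero]

theorem constantCoeff_frobeniusPolyAux (n : ℕ) :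
    MvPolynomial.constantCoeff (frobeniusPolyAux p n) = 0 := by
  have h1 := congrArg (fun x : WittVector p ℤ => x.coeff n)
    (map_zero (WittVector.frobenius : WittVector p ℤ →+* WittVector p ℤ))
  simp only [coeff_frobenius, WittVector.zero_coeff] at h1
  rw [show (0 : WittVector p ℤ).coeff = (0 : ℕ → ℤ) from funext fun i => WittVector.zero_coeff p ℤ i,
    MvPolynomial.aeval_zero, frobeniusPoly, map_add, map_mul, map_pow] at h1
  simp [(Fact.out : p.Prime).pos.ne', (Fact.out : p.Prime).ne_zero] at h1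
  exact h1

theorem frobenius_mem_WI {b c : Ideal S} (h2 : b * b ≤ c) (hp : ∀ x ∈ b, (p : S) * x ∈ c)
    {a : WittVector p S} (ha : a ∈ WI p b) : frobenius a ∈ WI p c := by
  rw [mem_WI] at ha ⊢
  intro n
  rw [coeff_frobenius, frobeniusPoly, map_add, map_mul, map_pow, MvPolynomial.aeval_X,
    MvPolynomial.aeval_C]
  refine add_mem ?_ ?_
  · obtain ⟨k, hk⟩ := Nat.exists_eq_add_of_le (Fact.out : p.Prime).two_le
    have : a.coeff n ^ p = (a.coeff n * a.coeff n) * a.coeff n ^ k := by
      rw [← pow_two, ← pow_add, ← hk]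
    rw [this]
    exact c.mul_mem_right _ (h2 (Ideal.mul_mem_mul (ha n) (ha n)))
  · rw [map_natCast]
    exact hp _ (aeval_mem _ _ ha (constantCoeff_frobeniusPolyAux n))

theorem IV_mul_mem_WI {b c : Ideal S} (h2 : b * b ≤ c) (hp : ∀ x ∈ b, (p : S) * x ∈ c)
    {w a : WittVector p S} (hw : w ∈ IV p S) (ha : a ∈ WI p b) : w * a ∈ WI p c := by
  obtain ⟨y, rfl⟩ := mem_IV_iff.1 hw
  rw [verschiebung_mul, verschiebung_mem_WI_iff]
  exact Ideal.mul_mem_left _ _ (frobenius_mem_WI h2 hp ha)

theorem natCast_mul_mem_WI {b c : Ideal S} (h2 : b * b ≤ c) (hp : ∀ x ∈ b, (p : S) * x ∈ c)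
    {a : WittVector p S} (ha : a ∈ WI p b) : (p : WittVector p S) * a ∈ WI p c := by
  rw [mul_comm, ← frobenius_verschiebung]
  exact frobenius_mem_WI h2 hp (verschiebung_mem_WI_iff.2 ha)

theorem sup_mul_mem_WI {b c : Ideal S} (h2 : b * b ≤ c) (hp : ∀ x ∈ b, (p : S) * x ∈ c)
    {w a : WittVector p S} (hw : w ∈ IV p S ⊔ Ideal.span {(p : WittVector p S)})
    (ha : a ∈ WI p b) : w * a ∈ WI p c := by
  obtain ⟨x, hx, y, hy, rfl⟩ := Submodule.mem_sup.1 hw
  obtain ⟨d, rfl⟩ := Ideal.mem_span_singleton'.1 hy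
  rw [add_mul, mul_assoc]
  exact add_mem (IV_mul_mem_WI h2 hp hx ha) (Ideal.mul_mem_left _ _ (natCast_mul_mem_WI h2 hp ha))

theorem map_frobenius' {S' T : Type*} [CommRing S'] [CommRing T] (g : S' →+* T)
    (x : WittVector p S') : WittVector.map g (frobenius x) = frobenius (WittVector.map g x) := by
  refine WittVector.ext fun n => ?_
  rw [WittVector.map_coeff, coeff_frobenius, coeff_frobenius, MvPolynomial.aeval_def,
    MvPolynomial.aeval_def, MvPolynomial.eval₂_comp_left]
  congr 1
  · exact RingHom.ext_int _ _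

theorem frobenius_teichmuller (a : S) :
    frobenius (teichmuller p a) = (teichmuller p (a ^ p) : WittVector p S) := by
  let f := MvPolynomial.aeval (R := ℤ) (fun _ : Unit => a)
  have h : frobenius (teichmuller p (MvPolynomial.X () : MvPolynomial Unit ℤ)) =
      (teichmuller p (MvPolynomial.X () ^ p) : WittVector p (MvPolynomial Unit ℤ)) := by
    let g := MvPolynomial.map (σ := Unit) (Int.castRingHom ℚ)
    refine WittVector.map_injective g (MvPolynomial.map_injective _ Int.cast_injective) ?_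
    haveI : Invertible (p : MvPolynomial Unit ℚ) :=
      (invertibleOfNonzero (Nat.cast_ne_zero.2 (Fact.out : p.Prime).ne_zero : (p : ℚ) ≠ 0)).map
        (MvPolynomial.C : ℚ →+* MvPolynomial Unit ℚ) |>.copy _ (by simp)
    refine (WittVector.ghostEquiv p (MvPolynomial Unit ℚ)).injective (funext fun n => ?_)
    show ghostComponent n _ = ghostComponent n _
    rw [map_frobenius', map_teichmuller, map_teichmuller,
      ghostComponent_frobenius, ghostComponent_teichmuller, ghostComponent_teichmuller, map_pow,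
      ← pow_mul, ← pow_succ']
  have h2 := congrArg (WittVector.map (f : MvPolynomial Unit ℤ →+* S)) h
  rw [map_frobenius', map_teichmuller, map_teichmuller, map_pow] at h2
  simpa [f] using h2

theorem teichmuller_add_of_sq_zero {T : Type u} [CommRing T] {x y : T} (hxx : x * x = 0)
    (hxy : x * y = 0) (hyy : y * y = 0) :
    (teichmuller p x + teichmuller p y : WittVector p T) = teichmuller p (x + y) := by
  let A := TrivSqZeroExt ℤ (ℤ × ℤ)
  let X : A := TrivSqZeroExt.inr (1, 0)
  let Y : A := TrivSqZeroExt.inr (0, 1)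
  let d : WittVector p A := teichmuller p X + teichmuller p Y - teichmuller p (X + Y)
  have hd0 : d.coeff 0 = 0 := by
    show constantCoeff d = 0
    simp only [d, map_sub, map_add]
    show (teichmuller p X).coeff 0 + (teichmuller p Y).coeff 0 - (teichmuller p (X + Y)).coeff 0 = 0
    simp only [teichmuller_coeff_zero, sub_self]
  obtain ⟨e, he⟩ := CommAlg4.WittTop.exists_verschiebung_of_mem (x := d) hd0
  let φ : A →+* A := (TrivSqZeroExt.map ((2 : ℤ) • (LinearMap.id : ℤ × ℤ →ₗ[ℤ] ℤ × ℤ))).toRingHom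
  have hφ : ∀ z : A, (φ z).fst = z.fst ∧ (φ z).snd = (2 : ℤ) • z.snd := fun z =>
    ⟨TrivSqZeroExt.fst_map _ z, TrivSqZeroExt.snd_map _ z⟩
  have hX : φ X = 2 * X := by
    rw [two_mul]
    refine TrivSqZeroExt.ext ?_ ?_
    · rw [(hφ X).1, TrivSqZeroExt.fst_add]; simp [X]
    · rw [(hφ X).2, TrivSqZeroExt.snd_add]; simp [X]
  have hY : φ Y = 2 * Y := by
    rw [two_mul]
    refine TrivSqZeroExt.ext ?_ ?_
    · rw [(hφ Y).1, TrivSqZeroExt.fst_add]; simp [Y]
    · rw [(hφ Y).2, TrivSqZeroExt.snd_add]; simp [Y]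
  have hd : WittVector.map φ d = teichmuller p (2 : A) * d := by
    simp only [d, map_sub, map_add, map_teichmuller]
    rw [hX, hY, ← mul_add]
    simp only [map_mul]
    ring
  rw [← he, map_verschiebung, mul_comm, verschiebung_mul] at hd
  have he' : WittVector.map φ e = teichmuller p ((2 : A) ^ p) * e := by
    rw [verschiebung_injective hd, frobenius_teichmuller, mul_comm]
  have hde : ∀ n, e.coeff n = 0 := by
    intro n
    have hn := congrArg (fun t : WittVector p A => t.coeff n) he'
    simp only [WittVector.map_coeff, Groth.Agent.CommAlg4.teichmuller_mul_coeff] at hn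
    have hfst : (e.coeff n).fst = 0 := by
      let ε : A →+* ℤ := (TrivSqZeroExt.fstHom ℤ ℤ (ℤ × ℤ)).toRingHom
      have h0 : WittVector.map ε e = 0 := by
        refine verschiebung_injective ?_
        rw [← map_verschiebung, he, map_zero]
        simp only [d, map_sub, map_add, map_teichmuller]
        show teichmuller p X.fst + teichmuller p Y.fst - teichmuller p (X.fst + Y.fst) = 0
        simp [X, Y, TrivSqZeroExt.fst_add, teichmuller_zero]
      have := congrArg (fun t : WittVector p ℤ => t.coeff n) h0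
      simp only [WittVector.map_coeff, WittVector.zero_coeff] at this
      exact this
    refine TrivSqZeroExt.ext hfst ?_
    have h2 := congrArg TrivSqZeroExt.snd hn
    rw [(hφ _).2] at h2
    obtain ⟨N, hN, hN2⟩ : ∃ N : ℕ, ((2 : A) ^ p) ^ p ^ n = ((2 : ℕ) ^ N : ℕ) ∧ 2 ≤ N := by
      refine ⟨p * p ^ n, by rw [← pow_mul, Nat.cast_pow, Nat.cast_ofNat], ?_⟩
      calc 2 ≤ p := (Fact.out : p.Prime).two_le
        _ ≤ p * p ^ n := Nat.le_mul_of_pos_right _ (pow_pos (Fact.out : p.Prime).pos _)
    rw [hN] at h2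
    have h3 : (((2 : ℕ) ^ N : ℕ) * e.coeff n : A).snd = ((2 : ℤ) ^ N) • (e.coeff n).snd := by
      rw [← nsmul_eq_mul, TrivSqZeroExt.snd_smul, ← natCast_zsmul]
      push_cast
      rfl
    rw [h3, ← sub_eq_zero, ← sub_smul, smul_eq_zero] at h2
    rcases h2 with h4 | h4
    · exfalso
      have : (2 : ℤ) < 2 ^ N :=
        lt_of_lt_of_le (by norm_num) (pow_le_pow_right₀ (by norm_num : (1 : ℤ) ≤ 2) hN2)
      omega
    · rw [h4]; rfl
  have he0 : e = 0 := WittVector.ext fun n => by rw [hde n, WittVector.zero_coeff]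
  let ψ : A →+* T := (TrivSqZeroExt.lift (Algebra.ofId ℤ T)
    (((LinearMap.id : ℤ →ₗ[ℤ] ℤ).smulRight x) ∘ₗ LinearMap.fst ℤ ℤ ℤ +
      ((LinearMap.id : ℤ →ₗ[ℤ] ℤ).smulRight y) ∘ₗ LinearMap.snd ℤ ℤ ℤ)
    (fun a b => by
      simp only [LinearMap.add_apply, LinearMap.comp_apply, LinearMap.fst_apply, LinearMap.snd_apply,
        LinearMap.smulRight_apply, LinearMap.id_apply, zsmul_eq_mul]
      linear_combination ((a.1 : T) * b.1) * hxx + ((a.1 : T) * b.2 + (a.2 : T) * b.1) * hxy +
        ((a.2 : T) * b.2) * hyy)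
    (fun r a => by
      rw [LinearMap.map_smul, Algebra.ofId_apply, Algebra.smul_def])
    (fun r a => by
      rw [op_smul_eq_smul, LinearMap.map_smul, Algebra.ofId_apply, Algebra.smul_def,
        mul_comm])).toRingHom
  have hψX : ψ X = x := by
    refine (TrivSqZeroExt.lift_apply_inr _ _ _ _ _ _).trans ?_
    simp
  have hψY : ψ Y = y := by
    refine (TrivSqZeroExt.lift_apply_inr _ _ _ _ _ _).trans ?_
    simp
  have := congrArg (WittVector.map ψ) he
  simp only [d, he0, map_zero, map_sub, map_add, map_teichmuller, hψX, hψY] at this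
  exact sub_eq_zero.1 this.symm

theorem teichmuller_add_sub_mem {b c : Ideal S} (h2 : b * b ≤ c) {x y : S} (hx : x ∈ b) (hy : y ∈ b) :
    (teichmuller p x + teichmuller p y - teichmuller p (x + y) : WittVector p S) ∈ WI p c := by
  rw [WI, RingHom.mem_ker, map_sub, map_add, map_teichmuller, map_teichmuller, map_teichmuller,
    map_add (Ideal.Quotient.mk c), sub_eq_zero]
  refine teichmuller_add_of_sq_zero ?_ ?_ ?_ <;>
    rw [← map_mul, Ideal.Quotient.eq_zero_iff_mem]
  · exact h2 (Ideal.mul_mem_mul hx hx)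
  · exact h2 (Ideal.mul_mem_mul hx hy)
  · exact h2 (Ideal.mul_mem_mul hy hy)

theorem tl_add_sub_mem {b c : Ideal S} (h2 : b * b ≤ c) {a a' : WittVector p S} (ha : a ∈ WI p b)
    (ha' : a' ∈ WI p b) : tl (a + a') - (tl a + tl a') ∈ WI p c := by
  rw [← verschiebung_mem_WI_iff, map_sub, map_add, verschiebung_tl, verschiebung_tl, verschiebung_tl]
  have h0 : (a + a').coeff 0 = a.coeff 0 + a'.coeff 0 :=
    map_add (constantCoeff : WittVector p S →+* S) a a'
  rw [h0]
  have := teichmuller_add_sub_mem (p := p) h2 (mem_WI.1 ha 0) (mem_WI.1 ha' 0)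
  convert this using 1
  ring

theorem tl_mul_sub_mem {b c : Ideal S} (h2 : b * b ≤ c) (hp : ∀ x ∈ b, (p : S) * x ∈ c)
    (w : WittVector p S) {a : WittVector p S} (ha : a ∈ WI p b) :
    tl (w * a) - frobenius w * tl a ∈ WI p c := by
  rw [← verschiebung_mem_WI_iff, map_sub, mul_comm (frobenius w), ← verschiebung_mul, verschiebung_tl,
    verschiebung_tl]
  have h0 : (w * a).coeff 0 = w.coeff 0 * a.coeff 0 :=
    map_mul (constantCoeff : WittVector p S →+* S) w a
  rw [h0, map_mul, show w * a - teichmuller p (w.coeff 0) * teichmuller p (a.coeff 0) -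
    (a - teichmuller p (a.coeff 0)) * w =
      (w - teichmuller p (w.coeff 0)) * teichmuller p (a.coeff 0) by ring]
  refine IV_mul_mem_WI h2 hp ?_ (teichmuller_mem_WI (mem_WI.1 ha 0))
  rw [← verschiebung_tl]
  exact verschiebung_mem_IV p S _

theorem tl_congr {b c : Ideal S} (hcb : c ≤ b) (h2 : b * b ≤ c) {a a' : WittVector p S}
    (ha : a ∈ WI p b) (ha' : a' ∈ WI p b) (h : a - a' ∈ WI p c) : tl a - tl a' ∈ WI p c := by
  have h1 := tl_add_sub_mem h2 ha' (WI_mono hcb h)
  rw [add_sub_cancel] at h1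
  have := add_mem h1 (tl_mem h)
  convert this using 1
  ring

theorem natCast_mul_mem_WI_self {a : WittVector p S} [IsReduced S] (hp : (p : S) = 0)
    (h : (p : WittVector p S) * a = 0) : a = 0 := by
  rcases subsingleton_or_nontrivial S with hS | hS
  · exact WittVector.ext fun n => Subsingleton.elim _ _
  haveI : CharP S p := CharP.charP_iff_prime_eq_zero (Fact.out : p.Prime) |>.2 hp
  rw [mul_comm, ← verschiebung_frobenius] at h
  have h1 : frobenius a = 0 := verschiebung_injective (h.trans (map_zero _).symm)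
  refine WittVector.ext fun n => ?_
  have := congrArg (fun t : WittVector p S => t.coeff n) h1
  simp only [coeff_frobenius_charP, WittVector.zero_coeff] at this
  rw [WittVector.zero_coeff]
  exact eq_zero_of_pow_eq_zero this

end Groth.Agent.DispLib
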